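import Mathlib.RingTheory.DiscreteValuationRing.Basic
import Mathlib.RingTheory.Localization.Away.Basic
import Mathlib.RingTheory.AdicCompletion.RingHom
import Mathlib.RingTheory.Smooth.Basic
import Mathlib.RingTheory.LocalRing.ResidueField.Basic
import Mathlib.FieldTheory.IsAlgClosed.Basic
import Mathlib.RingTheory.Spectrum.Prime.Basic
import Mathlib.RingTheory.Polynomial.Basic

/-!
# Subrings of a line over a discrete valuation ring
-/

set_option autoImplicit false

universe u

open Polynomial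

namespace Groth.Agent.LineModel

variable {R : Type u} [CommRing R]

section Dvd

variable [IsDomain R] [IsDiscreteValuationRing R] {L : Type u} [CommRing L] [IsDomain L] [Algebra R L] {π : R}
  (hπR : Irreducible π) (hπ : Prime (algebraMap R L π))

omit [IsDiscreteValuationRing R] in
include hπ in
theorem exists_eq_pow_mul [IsNoetherianRing L] {b : L} (hb : b ≠ 0) :
    ∃ (v : ℕ) (s : L), ¬ algebraMap R L π ∣ s ∧ b = algebraMap R L π ^ v * s := by
  obtain ⟨v, s, h1, h2⟩ := WfDvdMonoid.max_power_factor hb hπ.irreducible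
  exact ⟨v, s, h1, h2⟩

variable {s : L} (htr : ∀ h : R[X], algebraMap R L π ∣ aeval s h → C π ∣ h)

include hπ htr in
theorem exists_of_pow_mul_eq {m : ℕ} {x : L} : ∀ {h : R[X]},
    algebraMap R L π ^ m * x = aeval s h → ∃ h' : R[X], x = aeval s h' := by
  induction m with
  | zero => exact fun {h} he => ⟨h, by simpa using he⟩
  | succ m ih =>
    intro h he
    obtain ⟨h₁, rfl⟩ := htr h ⟨algebraMap R L π ^ m * x, by rw [← he, pow_succ']; ring⟩
    refine ih (h := h₁) (mul_left_cancel₀ hπ.ne_zero ?_)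
    rw [map_mul, aeval_C] at he
    rw [← he, pow_succ']
    ring

include hπR hπ htr in
theorem aeval_injective : Function.Injective (aeval (R := R) s) := by
  refine (injective_iff_map_eq_zero _).2 fun h he => ?_
  have key : ∀ (m : ℕ) (h : R[X]), aeval s h = 0 → C π ^ m ∣ h := by
    intro m
    induction m with
    | zero => exact fun h _ => by simp
    | succ m ih =>
      intro h he
      obtain ⟨h₁, rfl⟩ := htr h (he ▸ dvd_zero _)
      rw [map_mul, aeval_C, mul_eq_zero] at he
      rw [pow_succ']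
      exact mul_dvd_mul_left _ (ih h₁ (he.resolve_left hπ.ne_zero))
  refine Polynomial.ext fun i => ?_
  rw [coeff_zero]
  have hdvd : ∀ m : ℕ, π ^ m ∣ h.coeff i := fun m => by
    obtain ⟨h', rfl⟩ := key m h he
    rw [← C_pow, coeff_C_mul]
    exact dvd_mul_right _ _
  by_contra hne
  obtain ⟨m, hm⟩ := IsDiscreteValuationRing.associated_pow_irreducible hne hπR
  exact pow_succ_dvd_imp_false hπR (dvd_trans (hdvd (m + 1)) hm.dvd)
where
  pow_succ_dvd_imp_false {π : R} (hπR : Irreducible π) {m : ℕ} (h : π ^ (m + 1) ∣ π ^ m) : False := by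
    obtain ⟨c, hc⟩ := h
    rw [pow_succ, mul_assoc] at hc
    exact hπR.not_isUnit (IsUnit.of_mul_eq_one c (mul_left_cancel₀ (pow_ne_zero m hπR.ne_zero)
      (hc.symm.trans (mul_one _).symm)))

omit [IsDomain L] in
include hπR in
/-- A nonconstant residue gives transcendence modulo the uniformiser. -/
theorem tr_of_nonconst [IsAlgClosed (IsLocalRing.ResidueField R)]
    (hπ : Prime (algebraMap R L π)) (hs : ∀ c : R, ¬ algebraMap R L π ∣ s - algebraMap R L c) (h : R[X])
    (hh : algebraMap R L π ∣ aeval s h) : C π ∣ h := by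
  haveI : (Ideal.span {algebraMap R L π}).IsPrime := (Ideal.span_singleton_prime hπ.ne_zero).2 hπ
  let q := Ideal.Quotient.mk (Ideal.span {algebraMap R L π})
  let φ : IsLocalRing.ResidueField R →+* L ⧸ Ideal.span {algebraMap R L π} :=
    Ideal.Quotient.lift _ (q.comp (algebraMap R L)) fun r hr => by
      rw [(IsDiscreteValuationRing.irreducible_iff_uniformizer π).1 hπR, Ideal.mem_span_singleton] at hr
      exact Ideal.Quotient.eq_zero_iff_mem.2 (Ideal.mem_span_singleton.2 (map_dvd _ hr))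
  have hφ : ∀ r, φ (IsLocalRing.residue R r) = q (algebraMap R L r) := fun r => rfl
  letI := φ.toAlgebra
  have h0 : aeval (q s) (h.map (IsLocalRing.residue R)) = 0 := by
    show eval₂ φ (q s) (h.map _) = 0
    rw [eval₂_map, show φ.comp (IsLocalRing.residue R) = q.comp (algebraMap R L) from RingHom.ext hφ,
      ← hom_eval₂]
    exact Ideal.Quotient.eq_zero_iff_mem.2 (Ideal.mem_span_singleton.2 hh)
  by_contra hne
  have hne' : h.map (IsLocalRing.residue R) ≠ 0 := fun h1 => hne ((C_dvd_iff_dvd_coeff _ _).2 fun i => by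
    have := congrArg (fun p => coeff p i) h1
    simp only [coeff_map, coeff_zero, IsLocalRing.residue_eq_zero_iff] at this
    rwa [(IsDiscreteValuationRing.irreducible_iff_uniformizer π).1 hπR, Ideal.mem_span_singleton] at this)
  have halg : IsIntegral (IsLocalRing.ResidueField R) (q s) := IsAlgebraic.isIntegral ⟨_, hne', h0⟩
  obtain ⟨c, hc⟩ := minpoly.degree_eq_one_iff.1
    (IsAlgClosed.degree_eq_one_of_irreducible _ (minpoly.irreducible halg))
  obtain ⟨c, rfl⟩ := Ideal.Quotient.mk_surjective c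
  exact hs c (Ideal.mem_span_singleton.1 (Ideal.Quotient.eq.1 ((hφ c).symm.trans hc).symm))

end Dvd

section Retract

variable {A B L : Type u} [CommRing A] [CommRing B] [CommRing L] [Algebra R A] [Algebra R B] [Algebra R L]

/-- A map whose values are values of an injective map factors through it. -/
theorem exists_retract (ev : B →ₐ[R] L) (hev : Function.Injective ev) (φ : A →ₐ[R] L)
    (h : ∀ a, φ a ∈ ev.range) : ∃ r : A →ₐ[R] B, ∀ a, ev (r a) = φ a := by
  refine ⟨(AlgEquiv.ofInjective ev hev).symm.toAlgHom.comp (φ.codRestrict ev.range h), fun a => ?_⟩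
  exact congrArg Subtype.val ((AlgEquiv.ofInjective ev hev).apply_symm_apply (φ.codRestrict ev.range h a))

end Retract

section Lift

variable [IsLocalRing R] [IsAdicComplete (IsLocalRing.maximalIdeal R) R] {A : Type u} [CommRing A] [Algebra R A]
  [Algebra.FormallySmooth R A]

/-- A point of the closed fibre lifts. -/
theorem exists_lift_residue (g : A →ₐ[R] IsLocalRing.ResidueField R) :
    ∃ G : A →ₐ[R] R, ∀ a, IsLocalRing.residue R (G a) = g a := by
  let m := IsLocalRing.maximalIdeal R
  have hle' : ∀ n : ℕ, m ^ (n + 2) ≤ m ^ (n + 1) := fun n => Ideal.pow_le_pow_right (Nat.le_succ _)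
  have step : ∀ (n : ℕ) (f : A →ₐ[R] R ⧸ m ^ (n + 1)), ∃ f' : A →ₐ[R] R ⧸ m ^ (n + 2),
      (Ideal.Quotient.factorₐ R (hle' n)).comp f' = f := fun n f => by
    have hsurj : Function.Surjective
        (Ideal.Quotient.factorₐ R (hle' n)) :=
      Ideal.Quotient.factor_surjective (hle' n)
    refine ⟨Algebra.FormallySmooth.liftOfSurjective f _ hsurj ⟨n + 2, ?_⟩, AlgHom.ext fun a =>
      Algebra.FormallySmooth.liftOfSurjective_apply f _ hsurj _ a⟩
    have hk : RingHom.ker (Ideal.Quotient.factorₐ R (hle' n)) ≤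
        (m ^ (n + 1)).map (Ideal.Quotient.mk (m ^ (n + 2))) := fun x hx => by
      obtain ⟨x, rfl⟩ := Ideal.Quotient.mk_surjective x
      exact Ideal.mem_map_of_mem _ (Ideal.Quotient.eq_zero_iff_mem.1 hx)
    refine le_bot_iff.1 ((Ideal.pow_right_mono hk _).trans ?_)
    rw [← Ideal.map_pow, ← pow_mul, le_bot_iff, Ideal.map_eq_bot_iff_le_ker, Ideal.mk_ker]
    exact Ideal.pow_le_pow_right (Nat.le_mul_of_pos_left _ (Nat.succ_pos n))
  choose nxt hnxt using step
  let g₁ : A →ₐ[R] R ⧸ m ^ (0 + 1) :=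
    (Ideal.quotientEquivAlgOfEq R (pow_one m).symm).toAlgHom.comp g
  let F : ∀ n : ℕ, A →ₐ[R] R ⧸ m ^ (n + 1) := fun n => Nat.rec g₁ (fun n f => nxt n f) n
  let f : ∀ n : ℕ, A →ₐ[R] R ⧸ m ^ n := fun n =>
    (Ideal.Quotient.factorₐ R (Ideal.pow_le_pow_right (Nat.le_succ n))).comp (F n)
  have hF : ∀ {i j : ℕ} (hle : i ≤ j),
      (Ideal.Quotient.factorₐ R (Ideal.pow_le_pow_right (Nat.succ_le_succ hle))).comp (F j) = F i := by
    intro i j hle
    induction hle with
    | refl => exact AlgHom.ext fun a => by obtain ⟨x, hx⟩ := Ideal.Quotient.mk_surjective (F i a); simp [← hx]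
    | @step k hle ih =>
      refine AlgHom.ext fun a => ?_
      refine Eq.trans ?_ (congrArg (fun φ : A →ₐ[R] R ⧸ m ^ (i + 1) => φ a) ih)
      refine Eq.trans ?_ (congrArg (fun φ : A →ₐ[R] R ⧸ m ^ (k + 1) =>
        Ideal.Quotient.factorₐ R (Ideal.pow_le_pow_right (Nat.succ_le_succ hle)) (φ a)) (hnxt k (F k)))
      exact (Ideal.Quotient.factor_comp_apply (hle' k) (Ideal.pow_le_pow_right (Nat.succ_le_succ hle)) _).symm
  have hf : ∀ {i j : ℕ} (hle : i ≤ j),
      (Ideal.Quotient.factorₐ R (Ideal.pow_le_pow_right hle)).comp (f j) = f i := fun {i j} hle =>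
    AlgHom.ext fun a => by
      have e1 : m ^ (j + 1) ≤ m ^ j := Ideal.pow_le_pow_right (Nat.le_succ j)
      have e2 : m ^ (i + 1) ≤ m ^ i := Ideal.pow_le_pow_right (Nat.le_succ i)
      have e3 : m ^ (j + 1) ≤ m ^ (i + 1) := Ideal.pow_le_pow_right (Nat.succ_le_succ hle)
      have e4 : m ^ j ≤ m ^ i := Ideal.pow_le_pow_right hle
      show Ideal.Quotient.factor e4 (Ideal.Quotient.factor e1 (F j a)) = Ideal.Quotient.factor e2 (F i a)
      rw [← AlgHom.congr_fun (hF hle) a]
      exact (Ideal.Quotient.factor_comp_apply e1 e4 _).trans (Ideal.Quotient.factor_comp_apply e3 e2 _).symm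
  refine ⟨IsAdicComplete.liftAlgHom m f hf, fun a => ?_⟩
  have h1 : Ideal.Quotient.mk (m ^ 1) (IsAdicComplete.liftAlgHom m f hf a) = f 1 a :=
    IsAdicComplete.mk_liftAlgHom _ _ hf 1 a
  have h2 : f 1 a = g₁ a := AlgHom.congr_fun (hnxt 0 g₁) a
  obtain ⟨x, hx⟩ := Ideal.Quotient.mk_surjective (g a)
  have h3 : g₁ a = Ideal.Quotient.mk (m ^ 1) x := by
    show (Ideal.quotientEquivAlgOfEq R (pow_one m).symm) (g a) = _
    rw [← hx]
    rfl
  have h4 := Ideal.Quotient.eq.1 (h1.trans (h2.trans h3))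
  rw [pow_one] at h4
  rw [← hx]
  exact Ideal.Quotient.eq.2 h4

end Lift

end Groth.Agent.LineModel
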