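import Groth.Agent.LineModel.Pts
import Groth.Agent.LineModel.Alg
import Groth.Agent.WeilNeutral.Translate
import Groth.Agent.GrpSchLib.FieldAllComp
import Groth.Agent.QRepLib.Naive
import Mathlib.RingTheory.Flat.Basic
import Mathlib.AlgebraicGeometry.Morphisms.Smooth

/-!
# The neutral component of the closed fibre of an affine smooth group
-/

set_option autoImplicit false
set_option linter.style.haveILetI false
set_option backward.isDefEq.respectTransparency false
set_option backward.isDefEq.respectTransparency.types false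

universe u

open CategoryTheory CategoryTheory.Limits AlgebraicGeometry MonoidalCategory CartesianMonoidalCategory MonObj
  TopologicalSpace
open Groth.Agent.WeilNeutral (Tst pW sfib Rel algV fromSpec_hom spec_map_closed)
open scoped TensorProduct

namespace Groth.Agent.LineModel

variable {R : Type u} [CommRing R] {G : Over (Spec (CommRingCat.of R))} [IsAffine G.left]

theorem smooth_crd [Smooth G.hom] : Algebra.Smooth R (Crd G) := by
  have h := HasRingHomProperty.appLE (P := @Smooth) G.hom ‹_› ⟨⊤, isAffineOpen_top _⟩ ⟨⊤, isAffineOpen_top _⟩ le_top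
  have h' : RingHom.Smooth (algebraMap R (Crd G)) :=
    RingHom.Smooth.comp (RingHom.Smooth.of_bijective
      (ConcreteCategory.bijective_of_isIso (Scheme.ΓSpecIso (CommRingCat.of R)).inv)) h
  rw [RingHom.smooth_algebraMap] at h'
  exact h'

variable (G) in
/-- The prime of a point. -/
noncomputable def toPrime : G.left ≃ₜ PrimeSpectrum (Crd G) := G.left.isoSpec.hom.homeomorph

theorem toPrime_pt {C : Type u} [CommRing C] [Algebra R C] (x : Tst R C ⟶ G) (z : (Tst R C).left) :
    toPrime G (x.left z) = Spec.map (CommRingCat.ofHom (cv x).toRingHom) z := by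
  conv_lhs => rw [← pt_cv x]
  show G.left.isoSpec.hom ((Spec.map _ ≫ (isAffineOpen_top G.left).fromSpec) z) = _
  rw [IsAffineOpen.fromSpec_top, Scheme.Hom.comp_apply, ← Scheme.Hom.comp_apply G.left.isoSpec.inv, Iso.inv_hom_id]
  rfl

theorem hom_eq_comap (y : G.left) :
    (G.hom y : PrimeSpectrum R) = PrimeSpectrum.comap (algebraMap R (Crd G)) (toPrime G y) := by
  have h : G.hom = G.left.isoSpec.hom ≫ Spec.map (CommRingCat.ofHom (algebraMap R (Crd G))) := by
    rw [← Iso.inv_comp_eq]
    have := fromSpec_hom (N' := G) (isAffineOpen_top G.left)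
    rwa [IsAffineOpen.fromSpec_top] at this
  exact congrArg (fun m : G.left ⟶ _ => m y) h

variable [IsDomain R] [IsDiscreteValuationRing R] {π : R} (hπ : Irreducible π)

include hπ in
theorem mem_sfib_iff (y : G.left) : y ∈ sfib G ↔ algebraMap R (Crd G) π ∈ (toPrime G y).asIdeal := by
  have hm := (IsDiscreteValuationRing.irreducible_iff_uniformizer π).1 hπ
  show (G.hom y : PrimeSpectrum R) = IsLocalRing.closedPoint R ↔ _
  rw [hom_eq_comap, PrimeSpectrum.ext_iff]
  refine ⟨fun h => ?_, fun h => ?_⟩
  · show π ∈ (PrimeSpectrum.comap (algebraMap R (Crd G)) (toPrime G y)).asIdeal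
    rw [h]
    show π ∈ IsLocalRing.maximalIdeal R
    rw [hm]
    exact Ideal.mem_span_singleton_self π
  · refine ((IsLocalRing.maximalIdeal.isMaximal R).eq_of_le (Ideal.IsPrime.ne_top inferInstance) ?_).symm
    rw [hm, Ideal.span_singleton_le_iff_mem]
    exact h

include hπ in
theorem residue_uniformizer : IsLocalRing.residue R π = 0 :=
  (IsLocalRing.residue_eq_zero_iff π).2 ((IsDiscreteValuationRing.irreducible_iff_uniformizer π).1 hπ ▸
    Ideal.mem_span_singleton_self π)

include hπ in
/-- The closed fibre of a smooth algebra is reduced. -/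
theorem mem_span_of_pow_mem {A : Type u} [CommRing A] [Algebra R A] [Algebra.Smooth R A] {a : A} {n : ℕ}
    (h : algebraMap R A π ∣ a ^ n) : algebraMap R A π ∣ a := by
  haveI : _root_.IsReduced (IsLocalRing.ResidueField R ⊗[R] A) := QRepLib.isReduced_of_smooth_algebra (IsLocalRing.ResidueField R) _
  let i : A →ₐ[R] IsLocalRing.ResidueField R ⊗[R] A := Algebra.TensorProduct.includeRight
  have hi : i (algebraMap R A π) = 0 := by
    rw [AlgHom.commutes, Algebra.TensorProduct.algebraMap_apply]
    show IsLocalRing.residue R π ⊗ₜ[R] (1 : A) = 0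
    rw [residue_uniformizer hπ, TensorProduct.zero_tmul]
  have hnil : IsNilpotent (i a) := by
    obtain ⟨c, hc⟩ := h
    exact ⟨n, by rw [← map_pow, hc, map_mul, hi, zero_mul]⟩
  have h0 : (1 : IsLocalRing.ResidueField R) ⊗ₜ[R] a = 0 := hnil.eq_zero
  have h1 := congrArg (TensorProduct.quotTensorEquivQuotSMul A (IsLocalRing.maximalIdeal R)) h0
  have h2 : (Submodule.Quotient.mk a : A ⧸ (IsLocalRing.maximalIdeal R • ⊤ : Submodule R A)) = 0 := by
    rw [map_zero] at h1
    refine Eq.trans ?_ h1
    exact ((TensorProduct.quotTensorEquivQuotSMul_mk_tmul (IsLocalRing.maximalIdeal R) 1 a).trans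
      (by rw [one_smul])).symm
  rw [Submodule.Quotient.mk_eq_zero, (IsDiscreteValuationRing.irreducible_iff_uniformizer π).1 hπ,
    Submodule.ideal_span_singleton_smul, Submodule.mem_smul_pointwise_iff_exists] at h2
  obtain ⟨b, -, hb⟩ := h2
  exact ⟨b, hb.symm.trans (Algebra.smul_def π b)⟩

variable [GrpObj G] [Smooth G.hom]

omit [Smooth G.hom] in
theorem kappa_range : Set.range (pullback.fst G.hom (Spec.map (CommRingCat.ofHom (algebraMap R (IsLocalRing.ResidueField R))))) = sfib G := by
  rw [Scheme.Pullback.range_fst]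
  show G.hom ⁻¹' Set.range (Spec.map (CommRingCat.ofHom (algebraMap R (IsLocalRing.ResidueField R)))) = _
  rw [show Set.range (Spec.map (CommRingCat.ofHom (algebraMap R (IsLocalRing.ResidueField R)))) = {IsLocalRing.closedPoint R} from
    Set.eq_singleton_iff_unique_mem.2
    ⟨⟨IsLocalRing.closedPoint (IsLocalRing.ResidueField R), spec_map_closed _ Ideal.Quotient.mk_surjective _⟩,
      by rintro _ ⟨z, rfl⟩; exact spec_map_closed _ Ideal.Quotient.mk_surjective _⟩]

omit [Smooth G.hom] in
theorem image_component (z : (Red.bc (Spec.map (CommRingCat.ofHom (algebraMap R (IsLocalRing.ResidueField R)))) G).left) :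
    connectedComponentIn (sfib G) (pullback.fst G.hom (Spec.map (CommRingCat.ofHom (algebraMap R (IsLocalRing.ResidueField R)))) z) =
      pullback.fst G.hom (Spec.map (CommRingCat.ofHom (algebraMap R (IsLocalRing.ResidueField R)))) '' connectedComponent z := by
  haveI : IsClosedImmersion (Spec.map (CommRingCat.ofHom (algebraMap R (IsLocalRing.ResidueField R)))) :=
    IsClosedImmersion.spec_of_surjective _ Ideal.Quotient.mk_surjective
  let p := pullback.fst G.hom (Spec.map (CommRingCat.ofHom (algebraMap R (IsLocalRing.ResidueField R))))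
  have hemb : Topology.IsEmbedding p := p.isEmbedding
  refine subset_antisymm ?_ ?_
  · have hsub : connectedComponentIn (sfib G) (p z) ⊆ Set.range p :=
      kappa_range (G := G) ▸ connectedComponentIn_subset _ _
    rw [← Set.image_preimage_eq_of_subset hsub]
    refine Set.image_mono (_root_.IsPreconnected.subset_connectedComponent ?_ ?_)
    · rw [← hemb.isInducing.isPreconnected_image, Set.image_preimage_eq_of_subset hsub]
      exact isPreconnected_connectedComponentIn
    · exact mem_connectedComponentIn (kappa_range (G := G) ▸ Set.mem_range_self z)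
  · refine (isPreconnected_connectedComponent.image p p.continuous.continuousOn).subset_connectedComponentIn
      ⟨z, mem_connectedComponent, rfl⟩ ?_
    rw [← kappa_range (G := G)]
    exact Set.image_subset_range _ _

omit [Smooth G.hom] in
theorem toK_apply (x : Tst R (IsLocalRing.ResidueField R) ⟶ G) :
    pullback.fst G.hom _ ((toK (K := IsLocalRing.ResidueField R) x).left (IsLocalRing.closedPoint _)) = pW x :=
  congrArg (fun m : Spec (CommRingCat.of (IsLocalRing.ResidueField R)) ⟶ G.left => m (IsLocalRing.closedPoint _))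
    (toK_left_fst x)

theorem noetherianSpace_fibre :
    NoetherianSpace ↥(Red.bc (Spec.map (CommRingCat.ofHom (algebraMap R (IsLocalRing.ResidueField R)))) G).left := by
  haveI := smooth_crd (G := G)
  haveI : IsClosedImmersion (Spec.map (CommRingCat.ofHom (algebraMap R (IsLocalRing.ResidueField R)))) :=
    IsClosedImmersion.spec_of_surjective _ Ideal.Quotient.mk_surjective
  haveI : IsNoetherianRing (Crd G) := Algebra.FiniteType.isNoetherianRing R (Crd G)
  have h1 : NoetherianSpace G.left :=
    (toPrime G).symm.continuous |> fun hc => noetherianSpace_of_surjective _ hc (toPrime G).symm.surjective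
  exact (pullback.fst G.hom (Spec.map (CommRingCat.ofHom (algebraMap R (IsLocalRing.ResidueField R))))).isEmbedding.isInducing.noetherianSpace

include hπ in
/-- The neutral component of the closed fibre as a prime cut out by a function. -/
theorem exists_component :
    ∃ (P : Ideal (Crd G)) (f : Crd G), P.IsPrime ∧ algebraMap R (Crd G) π ∈ P ∧ f ∉ P ∧
      (∀ Q : Ideal (Crd G), Q.IsPrime → algebraMap R (Crd G) π ∈ Q → (f ∉ Q ↔ P ≤ Q)) ∧
      ∀ x : Tst R (IsLocalRing.ResidueField R) ⟶ G, Rel (IsLocalRing.ResidueField R) x 1 ↔ cv x f ≠ 0 := by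
  haveI := noetherianSpace_fibre (G := G)
  haveI : IsClosedImmersion (Spec.map (CommRingCat.ofHom (algebraMap R (IsLocalRing.ResidueField R)))) :=
    IsClosedImmersion.spec_of_surjective _ Ideal.Quotient.mk_surjective
  haveI : NoetherianSpace ↥(pullback G.hom (Spec.map (CommRingCat.ofHom (algebraMap R (IsLocalRing.ResidueField R))))) :=
    noetherianSpace_fibre (G := G)
  let p := pullback.fst G.hom (Spec.map (CommRingCat.ofHom (algebraMap R (IsLocalRing.ResidueField R))))
  let z₁ := (toK (K := IsLocalRing.ResidueField R) (1 : Tst R (IsLocalRing.ResidueField R) ⟶ G)).left (IsLocalRing.closedPoint _)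
  obtain ⟨c, hc, hcz⟩ := GrpSchLib.exists_isMaxPt z₁
  have hcc : connectedComponent z₁ = closure {c} := GrpSchLib.connectedComponent_eq_closure hc hcz
  have hC0 : connectedComponentIn (sfib G) (pW (1 : Tst R (IsLocalRing.ResidueField R) ⟶ G)) = closure {p c} := by
    rw [← toK_apply, image_component, hcc]
    exact (p.isClosedEmbedding.closure_image_eq {c}).symm.trans (congrArg closure Set.image_singleton)
  have hC' : IsClosed (sfib G \ closure {p c}) := by
    rw [← kappa_range (G := G), ← Set.image_singleton, p.isClosedEmbedding.closure_image_eq, ← hcc,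
      ← Set.image_univ, ← Set.image_sdiff p.isEmbedding.injective]
    exact p.isClosedEmbedding.isClosedMap _
      (isClosed_univ.sdiff (WeilNeutral.isOpen_connectedComponent_of_noetherian _))
  obtain ⟨I₂, hI₂⟩ := (PrimeSpectrum.isClosed_iff_zeroLocus_ideal _).1 ((toPrime G).isClosedMap _ hC')
  let P := (toPrime G (p c)).asIdeal
  have hP : toPrime G '' closure {p c} = PrimeSpectrum.zeroLocus (P : Set (Crd G)) := by
    rw [(toPrime G).image_closure, Set.image_singleton, PrimeSpectrum.closure_singleton]
  have htop : P ⊔ I₂ = ⊤ := by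
    rw [← PrimeSpectrum.zeroLocus_empty_iff_eq_top, PrimeSpectrum.zeroLocus_sup, ← hP, ← hI₂,
      ← Set.image_inter (toPrime G).injective, Set.inter_sdiff_self, Set.image_empty]
  obtain ⟨g, hg, f, hf, hgf⟩ := Submodule.mem_sup.1 ((Ideal.eq_top_iff_one _).1 htop)
  have hkey : ∀ Q : Ideal (Crd G), Q.IsPrime → algebraMap R (Crd G) π ∈ Q → (f ∉ Q ↔ P ≤ Q) := by
    intro Q hQ hπQ
    refine ⟨fun hfQ => ?_, fun hPQ hfQ => hQ.ne_top ((Ideal.eq_top_iff_one _).2 (hgf ▸ add_mem (hPQ hg) hfQ))⟩
    by_contra hPQ
    have hy : (toPrime G).symm ⟨Q, hQ⟩ ∈ sfib G \ closure {p c} := by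
      refine ⟨(mem_sfib_iff hπ _).2 (by rw [(toPrime G).apply_symm_apply]; exact hπQ), fun h => hPQ ?_⟩
      have := Set.mem_image_of_mem (toPrime G) h
      rw [(toPrime G).apply_symm_apply, hP] at this
      exact this
    have := Set.mem_image_of_mem (toPrime G) hy
    rw [(toPrime G).apply_symm_apply, hI₂] at this
    exact hfQ (this hf)
  have hπP : algebraMap R (Crd G) π ∈ P :=
    (mem_sfib_iff hπ _).1 (kappa_range (G := G) ▸ Set.mem_range_self c)
  have hfP : f ∉ P := (hkey P inferInstance hπP).2 le_rfl
  refine ⟨P, f, inferInstance, hπP, hfP, hkey, fun x => ?_⟩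
  have hxπ : algebraMap R (Crd G) π ∈ (toPrime G (pW x)).asIdeal :=
    (mem_sfib_iff hπ _).1 (WeilNeutral.pW_mem Ideal.Quotient.mk_surjective x)
  have hker : (toPrime G (pW x)).asIdeal = RingHom.ker (cv x).toRingHom := by
    rw [pW, toPrime_pt]
    show Ideal.comap (cv x).toRingHom (IsLocalRing.closedPoint (IsLocalRing.ResidueField R)).asIdeal = _
    rw [Ideal.eq_bot_of_prime (IsLocalRing.closedPoint (IsLocalRing.ResidueField R)).asIdeal]
    rfl
  show pW x ∈ connectedComponentIn (sfib G) (pW (1 : Tst R (IsLocalRing.ResidueField R) ⟶ G)) ↔ _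
  rw [hC0, ← Function.Injective.mem_set_image (toPrime G).injective, hP]
  show P ≤ (toPrime G (pW x)).asIdeal ↔ _
  rw [← hkey _ inferInstance hxπ, hker]
  rfl

include hπ in
omit [GrpObj G] [Smooth G.hom] [IsAffine G.left] in
/-- The ideal of the component is generated by the uniformiser after inverting the function. -/
theorem prime_uniformizer {A L : Type u} [CommRing A] [Algebra R A] [Algebra.Smooth R A] [IsDomain A] [CommRing L]
    [Algebra A L] [Algebra R L] [IsScalarTower R A L] {P : Ideal A} [P.IsPrime] {f : A} [IsLocalization.Away f L]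
    (hπA : algebraMap R A π ≠ 0) (hπP : algebraMap R A π ∈ P)
    (hf : ∀ Q : Ideal A, Q.IsPrime → algebraMap R A π ∈ Q → (f ∉ Q ↔ P ≤ Q)) :
    IsDomain L ∧ Prime (algebraMap R L π) ∧ ∀ a : A, algebraMap R L π ∣ algebraMap A L a ↔ a ∈ P := by
  have hfP : f ∉ P := (hf P inferInstance hπP).2 le_rfl
  have hf0 : f ≠ 0 := fun h => hfP (h ▸ P.zero_mem)
  have hle : Submonoid.powers f ≤ nonZeroDivisors A := powers_le_nonZeroDivisors_of_noZeroDivisors hf0
  haveI : IsDomain L := IsLocalization.isDomain_of_le_nonZeroDivisors L hle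
  have hdisj : Disjoint (Submonoid.powers f : Set A) (P : Set A) := by
    rw [Set.disjoint_left]
    rintro _ ⟨n, rfl⟩ h
    exact hfP (‹P.IsPrime›.mem_of_pow_mem n h)
  have hpr : (P.map (algebraMap A L)).IsPrime := IsLocalization.isPrime_of_isPrime_disjoint _ L P inferInstance hdisj
  have heq : Ideal.span {algebraMap R L π} = P.map (algebraMap A L) := by
    refine le_antisymm ((Ideal.span_singleton_le_iff_mem _).2 ?_) (Ideal.map_le_iff_le_comap.2 fun a ha => ?_)
    · rw [IsScalarTower.algebraMap_apply R A L]
      exact Ideal.mem_map_of_mem _ hπP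
    · have hrad : f * a ∈ (Ideal.span {algebraMap R A π}).radical := by
        rw [Ideal.radical_eq_sInf, Ideal.mem_sInf]
        rintro Q ⟨hQ, hQp⟩
        by_cases hfQ : f ∈ Q
        · exact Ideal.mul_mem_right _ _ hfQ
        · exact Ideal.mul_mem_left _ _ ((hf Q hQp (hQ (Ideal.mem_span_singleton_self _))).1 hfQ ha)
      obtain ⟨n, hn⟩ := hrad
      obtain ⟨b, hb⟩ := mem_span_of_pow_mem hπ (Ideal.mem_span_singleton.1 hn)
      rw [Ideal.mem_comap, Ideal.mem_span_singleton, IsScalarTower.algebraMap_apply R A L]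
      exact ((IsLocalization.Away.algebraMap_isUnit (S := L) f).dvd_mul_left).1 ⟨algebraMap A L b, by
        rw [← map_mul, hb, map_mul]⟩
  have hne : algebraMap R L π ≠ 0 := by
    rw [IsScalarTower.algebraMap_apply R A L]
    exact fun h => hπA (IsLocalization.injective L hle (h.trans (map_zero _).symm))
  refine ⟨inferInstance, (Ideal.span_singleton_prime hne).1 (heq ▸ hpr), fun a => ?_⟩
  rw [← Ideal.mem_span_singleton, heq, ← Ideal.mem_comap]
  exact SetLike.ext_iff.1 (IsLocalization.under_map_of_isPrime_disjoint _ L inferInstance hdisj) a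

end Groth.Agent.LineModel
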