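import Groth.Agent.LineModel.Pts
import Mathlib.RingTheory.DiscreteValuationRing.Basic
import Mathlib.RingTheory.Localization.FractionRing
import Mathlib.RingTheory.Flat.Basic
import Mathlib.RingTheory.Localization.Away.Basic

/-!
# Coordinates on models of the additive and the multiplicative group
-/

set_option autoImplicit false
set_option linter.style.haveILetI false
set_option backward.isDefEq.respectTransparency false
set_option backward.isDefEq.respectTransparency.types false

universe u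

open CategoryTheory CategoryTheory.Limits AlgebraicGeometry MonoidalCategory CartesianMonoidalCategory MonObj
open Groth.Agent.WeilNeutral (Tst)
open scoped TensorProduct

namespace Groth.Agent.LineModel

section Values

variable {K : Type u} [CommRing K] {C C' : Type u} [CommRing C] [Algebra K C] [CommRing C'] [Algebra K C']

/-- The value of a point of the additive group. -/
noncomputable def gaV (x : Tst K C ⟶ Red.Ga (Spec (CommRingCat.of K))) : C :=
  (Scheme.ΓSpecIso (CommRingCat.of C)).hom (Red.gaFn x)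

theorem ΓSpecIso_hom_tmap (φ : C →ₐ[K] C') (v : Γ((Tst K C).left, ⊤)) :
    (Scheme.ΓSpecIso (CommRingCat.of C')).hom ((tmap φ).left.appTop v) =
      φ ((Scheme.ΓSpecIso (CommRingCat.of C)).hom v) :=
  congrArg (fun m => m.hom v) (Scheme.ΓSpecIso_naturality (CommRingCat.ofHom φ.toRingHom))

theorem gaV_tmap (φ : C →ₐ[K] C') (x : Tst K C ⟶ Red.Ga (Spec (CommRingCat.of K))) :
    gaV (tmap φ ≫ x) = φ (gaV x) := by
  rw [gaV, GrpSchLib.GaPts.gaFn_comp]
  exact ΓSpecIso_hom_tmap φ _

theorem gaV_mul (x y : Tst K C ⟶ Red.Ga (Spec (CommRingCat.of K))) : gaV (x * y) = gaV x + gaV y :=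
  (congrArg (Scheme.ΓSpecIso (CommRingCat.of C)).hom (GrpSchLib.GaPts.gaFn_mul x y)).trans
    (map_add (Scheme.ΓSpecIso (CommRingCat.of C)).hom.hom _ _)

theorem gaV_bijective : Function.Bijective (gaV : (Tst K C ⟶ Red.Ga (Spec (CommRingCat.of K))) → C) := by
  refine ⟨fun x y h => GrpSchLib.GaPts.gaFn_injective
    ((ConcreteCategory.bijective_of_isIso (Scheme.ΓSpecIso (CommRingCat.of C)).hom).1 h), fun c => ?_⟩
  refine ⟨GrpSchLib.GaPts.ptOfFn ((Scheme.ΓSpecIso (CommRingCat.of C)).inv c), ?_⟩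
  rw [gaV, GrpSchLib.GaPts.gaFn_ptOfFn]
  exact (Scheme.ΓSpecIso (CommRingCat.of C)).inv_hom_id_apply c

/-- The value of a point of the multiplicative group. -/
noncomputable def gmV (x : Tst K C ⟶ Red.Gm (Spec (CommRingCat.of K))) : C :=
  (Scheme.ΓSpecIso (CommRingCat.of C)).hom (Red.gmFn x)

theorem gmV_tmap (φ : C →ₐ[K] C') (x : Tst K C ⟶ Red.Gm (Spec (CommRingCat.of K))) :
    gmV (tmap φ ≫ x) = φ (gmV x) := by
  rw [gmV, GmPts.gmFn_comp]
  exact ΓSpecIso_hom_tmap φ _

theorem gmV_mul (x y : Tst K C ⟶ Red.Gm (Spec (CommRingCat.of K))) : gmV (x * y) = gmV x * gmV y :=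
  (congrArg (Scheme.ΓSpecIso (CommRingCat.of C)).hom (GmPts.gmFn_mul x y)).trans
    (map_mul (Scheme.ΓSpecIso (CommRingCat.of C)).hom.hom _ _)

theorem isUnit_gmV (x : Tst K C ⟶ Red.Gm (Spec (CommRingCat.of K))) : IsUnit (gmV x) :=
  (GmPts.isUnit_gmFn x).map (Scheme.ΓSpecIso (CommRingCat.of C)).hom.hom

theorem gmV_injective : Function.Injective (gmV : (Tst K C ⟶ Red.Gm (Spec (CommRingCat.of K))) → C) :=
  fun _ _ h => GmPts.gmFn_injective
    ((ConcreteCategory.bijective_of_isIso (Scheme.ΓSpecIso (CommRingCat.of C)).hom).1 h)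

theorem exists_gmV {c : C} (hc : IsUnit c) : ∃ x : Tst K C ⟶ Red.Gm (Spec (CommRingCat.of K)), gmV x = c := by
  refine ⟨GmPts.ptOfUnit (Units.map (Scheme.ΓSpecIso (CommRingCat.of C)).inv.hom.toMonoidHom hc.unit), ?_⟩
  rw [gmV, GmPts.gmFn_ptOfUnit]
  exact (Scheme.ΓSpecIso (CommRingCat.of C)).inv_hom_id_apply c

theorem smul_map {R : Type u} [CommRing R] [Algebra R K] [Algebra R C] [IsScalarTower R K C] [Algebra R C']
    [IsScalarTower R K C'] (φ : C →ₐ[K] C') (r : R) (x : C) : φ (r • x) = r • φ x :=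
  map_smul (φ.restrictScalars R) r x

set_option synthInstance.maxHeartbeats 200000 in
set_option maxHeartbeats 1000000 in
theorem gaV_comp_mul {R : Type u} [CommRing R] [Algebra R K] {G : Over (Spec (CommRingCat.of R))} [GrpObj G]
    (e : Red.bc (Spec.map (CommRingCat.ofHom (algebraMap R K))) G ≅ Red.Ga (Spec (CommRingCat.of K))) [IsMonHom e.hom]
    (x y : Tst K C ⟶ Red.bc (Spec.map (CommRingCat.ofHom (algebraMap R K))) G) :
    gaV ((x * y) ≫ e.hom) = gaV (x ≫ e.hom) + gaV (y ≫ e.hom) :=
  (congrArg gaV (MonObj.mul_comp x y e.hom)).trans (gaV_mul _ _)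

set_option synthInstance.maxHeartbeats 200000 in
set_option maxHeartbeats 1000000 in
theorem gmV_comp_mul {R : Type u} [CommRing R] [Algebra R K] {G : Over (Spec (CommRingCat.of R))} [GrpObj G]
    (e : Red.bc (Spec.map (CommRingCat.ofHom (algebraMap R K))) G ≅ Red.Gm (Spec (CommRingCat.of K))) [IsMonHom e.hom]
    (x y : Tst K C ⟶ Red.bc (Spec.map (CommRingCat.ofHom (algebraMap R K))) G) :
    gmV ((x * y) ≫ e.hom) = gmV (x ≫ e.hom) * gmV (y ≫ e.hom) :=
  (congrArg gmV (MonObj.mul_comp x y e.hom)).trans (gmV_mul _ _)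

end Values

variable {R : Type u} [CommRing R] [IsDomain R] [IsDiscreteValuationRing R] {π : R} (hπ : Irreducible π)
  (K : Type u) [Field K] [Algebra R K] [IsFractionRing R K]

include hπ in
omit [IsDomain R] [IsDiscreteValuationRing R] [IsFractionRing R K] in
theorem algebraMap_ne_zero [FaithfulSMul R K] (n : ℕ) : algebraMap R K π ^ n ≠ 0 :=
  pow_ne_zero n fun h => hπ.ne_zero (FaithfulSMul.algebraMap_injective R K (h.trans (map_zero _).symm))

include hπ in
/-- Denominators are powers of the uniformiser. -/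
theorem exists_den (r : K) : ∃ (n : ℕ) (x : R), π ^ n • r = algebraMap R K x := by
  obtain ⟨⟨x, y⟩, h⟩ := IsLocalization.surj (nonZeroDivisors R) r
  obtain ⟨n, u, hu⟩ := IsDiscreteValuationRing.eq_unit_mul_pow_irreducible (nonZeroDivisors.ne_zero y.2) hπ
  refine ⟨n, ↑u⁻¹ * x, ?_⟩
  have hu1 : algebraMap R K ↑u⁻¹ * algebraMap R K ↑u = 1 := by
    rw [← map_mul, Units.inv_mul, map_one]
  rw [Algebra.smul_def, map_mul, ← h, hu, map_mul]
  linear_combination (-(algebraMap R K (π ^ n) * r)) * hu1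

include hπ in
/-- Clearing denominators. -/
theorem exists_clear {A : Type u} [CommRing A] [Algebra R A] (τ : K ⊗[R] A) :
    ∃ (n : ℕ) (a : A), π ^ n • τ = (1 : K) ⊗ₜ[R] a := by
  induction τ using TensorProduct.induction_on with
  | zero => exact ⟨0, 0, by simp⟩
  | tmul r a =>
    obtain ⟨n, x, hx⟩ := exists_den hπ K r
    refine ⟨n, x • a, ?_⟩
    rw [TensorProduct.smul_tmul', hx, Algebra.algebraMap_eq_smul_one, TensorProduct.smul_tmul]
  | add x y hx hy =>
    obtain ⟨m, a, ha⟩ := hx
    obtain ⟨n, b, hb⟩ := hy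
    refine ⟨m + n, π ^ n • a + π ^ m • b, ?_⟩
    rw [smul_add, TensorProduct.tmul_add, TensorProduct.tmul_smul, TensorProduct.tmul_smul, ← ha, ← hb, smul_smul,
      smul_smul, ← pow_add, ← pow_add, add_comm n m]

include hπ in
/-- A polynomial becomes integral in a scaled variable. -/
theorem exists_scale (n : ℕ) (p : Polynomial K) :
    ∃ (m : ℕ) (h : Polynomial R), π ^ m • p = Polynomial.aeval ((π ^ n) • (Polynomial.X : Polynomial K)) h := by
  induction p using Polynomial.induction_on' with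
  | add p q hp hq =>
    obtain ⟨m, h, hh⟩ := hp
    obtain ⟨m', h', hh'⟩ := hq
    refine ⟨m + m', Polynomial.C (π ^ m') * h + Polynomial.C (π ^ m) * h', ?_⟩
    rw [smul_add, map_add, map_mul, map_mul, Polynomial.aeval_C, Polynomial.aeval_C, ← Algebra.smul_def,
      ← Algebra.smul_def, ← hh, ← hh', smul_smul, smul_smul, ← pow_add, ← pow_add, add_comm m' m]
  | monomial i c =>
    obtain ⟨j, d, hd⟩ := exists_den hπ K c
    refine ⟨n * i + j, Polynomial.monomial i d, ?_⟩
    rw [Polynomial.aeval_monomial, smul_pow, ← Polynomial.monomial_one_right_eq_X_pow (R := K), ← Algebra.smul_def,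
      Polynomial.smul_monomial, Polynomial.smul_monomial, Polynomial.smul_monomial]
    congr 1
    rw [← pow_mul, pow_add, mul_smul, hd]
    simp only [Algebra.smul_def, _root_.mul_one]
    ring

variable {G : Over (Spec (CommRingCat.of R))} [GrpObj G] [IsAffine G.left]

include hπ in
/-- The coordinate of a model of the additive group. -/
theorem exists_gaCoord [Module.Flat R (Crd G)]
    (e : Red.bc (Spec.map (CommRingCat.ofHom (algebraMap R K))) G ≅ Red.Ga (Spec (CommRingCat.of K))) [IsMonHom e.hom] :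
    IsDomain (Crd G) ∧ ∃ b : Crd G, b ≠ 0 ∧ (∀ a : Crd G, ∃ (m : ℕ) (h : Polynomial R),
        algebraMap R (Crd G) π ^ m * a = Polynomial.aeval b h) ∧
      ∀ (C : Type u) [CommRing C] [Algebra R C] [Module.Flat R C] (x y : Tst R C ⟶ G),
        cv (x * y) b = cv x b + cv y b ∧ (cv x b = cv y b → x = y) := by
  let t : ∀ (C : Type u) [CommRing C] [Algebra R C] [Algebra K C] [IsScalarTower R K C],
      (Tst R C ⟶ G) → C := fun C _ _ _ _ x => gaV (toK (K := K) x ≫ e.hom)
  have ht : ∀ (C C' : Type u) [CommRing C] [Algebra R C] [Algebra K C] [IsScalarTower R K C] [CommRing C']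
      [Algebra R C'] [Algebra K C'] [IsScalarTower R K C'] (φ : C →ₐ[K] C') (x : Tst R C ⟶ G),
      t C' (tmap (φ.restrictScalars R) ≫ x) = φ (t C x) := fun C C' _ _ _ _ _ _ _ _ φ x => by
    show gaV (toK _ ≫ e.hom) = φ (gaV _)
    rw [toK_tmap, Category.assoc, gaV_tmap]
  have hbij : ∀ (C : Type u) [CommRing C] [Algebra R C] [Algebra K C] [IsScalarTower R K C],
      Function.Bijective (t C) := fun C _ _ _ _ =>
    gaV_bijective.comp ((Iso.homToEquiv e).bijective.comp toK_bijective)
  obtain ⟨w, hw⟩ := (hbij (Polynomial K)).2 Polynomial.X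
  let cu : Crd G →ₐ[R] Polynomial K := cv w
  have heval : ∀ (C : Type u) [CommRing C] [Algebra R C] [Algebra K C] [IsScalarTower R K C] (x : Tst R C ⟶ G)
      (a : Crd G), cv x a = Polynomial.aeval (t C x) (cu a) := fun C _ _ _ _ x a => by
    have h : x = tmap ((Polynomial.aeval (R := K) (t C x)).restrictScalars R) ≫ w :=
      (hbij C).1 (by rw [ht, hw, Polynomial.aeval_X])
    conv_lhs => rw [h, cv_tmap]
    rfl
  have hι : Function.Injective cu := fun a a' h => by
    let x : Tst R (K ⊗[R] Crd G) ⟶ G := pt Algebra.TensorProduct.includeRight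
    have hx := heval _ x
    simp only [x, cv_pt] at hx
    exact Algebra.TensorProduct.includeRight_injective (B := Crd G) (IsFractionRing.injective R K)
      ((hx a).trans ((congrArg _ h).trans (hx a').symm))
  obtain ⟨n, b, hb⟩ := exists_clear hπ K (t _ (pt (G := G) (Algebra.TensorProduct.includeRight :
    Crd G →ₐ[R] K ⊗[R] Crd G)))
  have hιb : cu b = π ^ n • (Polynomial.X : Polynomial K) := by
    let ψ : K ⊗[R] Crd G →ₐ[K] Polynomial K := Algebra.TensorProduct.lift (Algebra.ofId K _) cu fun _ _ => .all _ _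
    have h1 : tmap (ψ.restrictScalars R) ≫ pt (G := G) Algebra.TensorProduct.includeRight = w :=
      cv_injective (by
        rw [cv_tmap, cv_pt]
        exact AlgHom.ext fun a => by simp [ψ, cu])
    have h2 := ht _ _ ψ (pt (G := G) Algebra.TensorProduct.includeRight)
    rw [h1, hw] at h2
    rw [h2, ← smul_map, hb]
    simp [ψ]
  have hval : ∀ (C : Type u) [CommRing C] [Algebra R C] [Algebra K C] [IsScalarTower R K C] (x : Tst R C ⟶ G),
      cv x b = π ^ n • t C x := fun C _ _ _ _ x => by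
    rw [heval C x b, hιb, smul_map, Polynomial.aeval_X]
  refine ⟨hι.isDomain cu.toRingHom, b, fun h => ?_, fun a => ?_, fun C _ _ _ x y => ?_⟩
  · rw [h, map_zero, Algebra.smul_def, eq_comm, mul_eq_zero] at hιb
    refine hιb.elim (fun h' => ?_) Polynomial.X_ne_zero
    rw [IsScalarTower.algebraMap_apply R K (Polynomial K), map_eq_zero, map_pow] at h'
    exact algebraMap_ne_zero hπ K n h'
  · obtain ⟨m, h, hh⟩ := exists_scale hπ K n (cu a)
    refine ⟨m, h, hι ?_⟩
    rw [map_mul, map_pow, AlgHom.commutes, ← map_pow, ← Algebra.smul_def, hh, ← Polynomial.aeval_algHom_apply, hιb]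
  · let j : C →ₐ[R] K ⊗[R] C := Algebra.TensorProduct.includeRight
    have hj : Function.Injective j :=
      Algebra.TensorProduct.includeRight_injective (B := C) (IsFractionRing.injective R K)
    have hadd : ∀ x y : Tst R (K ⊗[R] C) ⟶ G, t _ (x * y) = t _ x + t _ y := fun x y => by
      show gaV (toK (K := K) (x * y) ≫ e.hom) = gaV (toK (K := K) x ≫ e.hom) + gaV (toK (K := K) y ≫ e.hom)
      rw [toK_mul]
      exact gaV_comp_mul e _ _
    have hcv : ∀ x : Tst R C ⟶ G, j (cv x b) = π ^ n • t _ (tmap j ≫ x) := fun x => by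
      rw [← hval, cv_tmap]; rfl
    refine ⟨hj ?_, fun h => cv_injective (AlgHom.ext fun a => hj ?_)⟩
    · rw [map_add, hcv, hcv, hcv, MonObj.comp_mul, hadd, smul_add]
    · have h' : t _ (tmap j ≫ x) = t _ (tmap j ≫ y) := by
        have := congrArg j h
        rw [hcv, hcv, ← IsScalarTower.algebraMap_smul K, ← IsScalarTower.algebraMap_smul K (π ^ n) (t _ _)] at this
        exact (IsUnit.mk0 _ (by rw [map_pow]; exact algebraMap_ne_zero hπ K n)).smul_left_cancel.1 this
      have h2 := (hbij _).1 h'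
      exact AlgHom.congr_fun ((cv_tmap j x).symm.trans ((congrArg cv h2).trans (cv_tmap j y))) a

include hπ in
/-- The coordinates of a model of the multiplicative group. -/
theorem exists_gmCoord [Module.Flat R (Crd G)]
    (e : Red.bc (Spec.map (CommRingCat.ofHom (algebraMap R K))) G ≅ Red.Gm (Spec (CommRingCat.of K))) [IsMonHom e.hom] :
    IsDomain (Crd G) ∧ ∃ (n : ℕ) (b c : Crd G), b * c = algebraMap R (Crd G) π ^ (2 * n) ∧
      b ≠ algebraMap R (Crd G) π ^ n ∧
      (∀ a : Crd G, ∃ (m N : ℕ) (h : Polynomial R),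
        algebraMap R (Crd G) π ^ m * b ^ N * a = Polynomial.aeval b h) ∧
      ∀ (C : Type u) [CommRing C] [Algebra R C] [Module.Flat R C] (x y : Tst R C ⟶ G),
        algebraMap R C π ^ n * cv (x * y) b = cv x b * cv y b ∧ (cv x b = cv y b → x = y) := by
  let t : ∀ (C : Type u) [CommRing C] [Algebra R C] [Algebra K C] [IsScalarTower R K C],
      (Tst R C ⟶ G) → C := fun C _ _ _ _ x => gmV (toK (K := K) x ≫ e.hom)
  have ht : ∀ (C C' : Type u) [CommRing C] [Algebra R C] [Algebra K C] [IsScalarTower R K C] [CommRing C']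
      [Algebra R C'] [Algebra K C'] [IsScalarTower R K C'] (φ : C →ₐ[K] C') (x : Tst R C ⟶ G),
      t C' (tmap (φ.restrictScalars R) ≫ x) = φ (t C x) := fun C C' _ _ _ _ _ _ _ _ φ x => by
    show gmV (toK _ ≫ e.hom) = φ (gmV _)
    rw [toK_tmap, Category.assoc, gmV_tmap]
  have hinj : ∀ (C : Type u) [CommRing C] [Algebra R C] [Algebra K C] [IsScalarTower R K C],
      Function.Injective (t C) := fun C _ _ _ _ =>
    gmV_injective.comp ((Iso.homToEquiv e).injective.comp toK_bijective.1)
  let P := Localization.Away (Polynomial.X : Polynomial K)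
  let XP : P := algebraMap (Polynomial K) P Polynomial.X
  have hXP : IsUnit XP := IsLocalization.Away.algebraMap_isUnit _
  obtain ⟨z, hz⟩ := exists_gmV (K := K) hXP
  obtain ⟨w, hw'⟩ := toK_bijective.2 (z ≫ e.inv)
  have hw : t P w = XP := by
    show gmV (toK w ≫ e.hom) = _
    rw [hw', Category.assoc, e.inv_hom_id, Category.comp_id, hz]
  let cu : Crd G →ₐ[R] P := cv w
  have heval : ∀ (C : Type u) [CommRing C] [Algebra R C] [Algebra K C] [IsScalarTower R K C] (x : Tst R C ⟶ G),
      ∃ φ : P →ₐ[K] C, φ XP = t C x ∧ ∀ a, cv x a = φ (cu a) := fun C _ _ _ _ x => by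
    have hu : ∀ y : Submonoid.powers (Polynomial.X : Polynomial K), IsUnit (Polynomial.aeval (t C x) (y : Polynomial K)) := by
      rintro ⟨_, i, rfl⟩
      rw [map_pow, Polynomial.aeval_X]
      exact (isUnit_gmV _).pow i
    refine ⟨IsLocalization.liftAlgHom hu, ?_, fun a => ?_⟩
    · show IsLocalization.liftAlgHom hu (algebraMap _ P Polynomial.X) = _
      rw [IsLocalization.liftAlgHom_apply, IsLocalization.lift_eq]
      exact Polynomial.aeval_X _
    · have h : x = tmap ((IsLocalization.liftAlgHom (S := P) hu).restrictScalars R) ≫ w :=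
        hinj C (by
          rw [ht, hw]
          show _ = IsLocalization.liftAlgHom hu (algebraMap _ P Polynomial.X)
          rw [IsLocalization.liftAlgHom_apply, IsLocalization.lift_eq]
          exact (Polynomial.aeval_X _).symm)
      conv_lhs => rw [h, cv_tmap]
      rfl
  have hι : Function.Injective cu := fun a a' h => by
    obtain ⟨φ, -, hφ⟩ := heval _ (pt (G := G) (Algebra.TensorProduct.includeRight : Crd G →ₐ[R] K ⊗[R] Crd G))
    simp only [cv_pt] at hφ
    exact Algebra.TensorProduct.includeRight_injective (B := Crd G) (IsFractionRing.injective R K)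
      ((hφ a).trans ((congrArg _ h).trans (hφ a').symm))
  let τ : K ⊗[R] Crd G := t _ (pt (G := G) Algebra.TensorProduct.includeRight)
  have hτ : IsUnit τ := isUnit_gmV _
  obtain ⟨n₁, b₁, hb₁⟩ := exists_clear hπ K τ
  obtain ⟨n₂, c₂, hc₂⟩ := exists_clear hπ K (↑hτ.unit⁻¹ : K ⊗[R] Crd G)
  let ψ : K ⊗[R] Crd G →ₐ[K] P := Algebra.TensorProduct.lift (Algebra.ofId K _) cu fun _ _ => .all _ _
  have hψτ : ψ τ = XP := by
    have h1 : tmap (ψ.restrictScalars R) ≫ pt (G := G) Algebra.TensorProduct.includeRight = w :=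
      cv_injective (by
        rw [cv_tmap, cv_pt]
        exact AlgHom.ext fun a => by simp [ψ, cu])
    have h2 := ht _ _ ψ (pt (G := G) Algebra.TensorProduct.includeRight)
    rw [h1, hw] at h2
    exact h2.symm
  have hψ : ∀ a : Crd G, ψ ((1 : K) ⊗ₜ[R] a) = cu a := fun a => by simp [ψ]
  obtain ⟨b, hbdef⟩ : ∃ b, b = algebraMap R (Crd G) π ^ n₂ * b₁ := ⟨_, rfl⟩
  obtain ⟨c, hcdef⟩ : ∃ c, c = algebraMap R (Crd G) π ^ n₁ * c₂ := ⟨_, rfl⟩
  haveI : IsDomain P := IsLocalization.isDomain_localization (R := Polynomial K)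
    (powers_le_nonZeroDivisors_of_noZeroDivisors Polynomial.X_ne_zero)
  have hιb : cu b = algebraMap R P π ^ (n₁ + n₂) * XP := by
    rw [hbdef, map_mul, map_pow, AlgHom.commutes, ← hψ b₁, ← hb₁, smul_map, hψτ, Algebra.smul_def, map_pow]
    ring
  have hιc : cu c * XP = algebraMap R P π ^ (n₁ + n₂) := by
    rw [hcdef, map_mul, map_pow, AlgHom.commutes, ← hψ c₂, ← hc₂, smul_map, Algebra.smul_def, map_pow, ← hψτ, _root_.mul_assoc, _root_.mul_assoc, ← map_mul ψ,
      IsUnit.val_inv_mul, map_one, _root_.mul_one, pow_add]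
  refine ⟨hι.isDomain cu.toRingHom, n₁ + n₂, b, c, hι ?_, fun h => ?_, fun a => ?_, fun C _ _ _ x y => ?_⟩
  · rw [map_mul, hιb, _root_.mul_assoc, mul_comm XP, hιc, map_pow, AlgHom.commutes, two_mul (n₁ + n₂), ← pow_add]
  · have h' := congrArg cu h
    rw [hιb, map_pow, AlgHom.commutes] at h'
    have hne : algebraMap R P π ^ (n₁ + n₂) ≠ 0 := by
      rw [IsScalarTower.algebraMap_apply R K P, ← map_pow]
      exact (map_ne_zero (algebraMap K P)).2 (algebraMap_ne_zero hπ K _)
    have hX : XP = 1 := mul_left_cancel₀ hne (h'.trans (_root_.mul_one _).symm)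
    have := IsLocalization.injective P (powers_le_nonZeroDivisors_of_noZeroDivisors Polynomial.X_ne_zero)
      (hX.trans (map_one _).symm)
    exact absurd (congrArg Polynomial.natDegree this) (by simp)
  · obtain ⟨⟨p, ⟨_, N, rfl⟩⟩, hp⟩ := IsLocalization.surj (Submonoid.powers (Polynomial.X : Polynomial K)) (cu a)
    obtain ⟨m, h, hh⟩ := exists_scale hπ K (n₁ + n₂) p
    refine ⟨m, N, Polynomial.C (π ^ ((n₁ + n₂) * N)) * h, hι ?_⟩
    have hp' : cu a * XP ^ N = algebraMap (Polynomial K) P p := by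
      rw [← hp]; simp [XP, P]
    let F : Polynomial K →ₐ[R] P := (IsScalarTower.toAlgHom K (Polynomial K) P).restrictScalars R
    have hιb' : F (π ^ (n₁ + n₂) • Polynomial.X) = cu b := by
      rw [map_smul, hιb, Algebra.smul_def, map_pow]
      rfl
    have h3 : algebraMap R P π ^ m * (cu a * XP ^ N) = Polynomial.aeval (cu b) h := by
      rw [← hιb', Polynomial.aeval_algHom_apply, ← hh, map_smul, Algebra.smul_def, map_pow, hp']
      rfl
    rw [map_mul cu, map_mul cu, map_pow, map_pow, AlgHom.commutes, ← Polynomial.aeval_algHom_apply, map_mul,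
      Polynomial.aeval_C, ← h3, map_pow, hιb, mul_pow, ← pow_mul]
    ring
  · let j : C →ₐ[R] K ⊗[R] C := Algebra.TensorProduct.includeRight
    have hj : Function.Injective j :=
      Algebra.TensorProduct.includeRight_injective (B := C) (IsFractionRing.injective R K)
    have hmul : ∀ x y : Tst R (K ⊗[R] C) ⟶ G, t _ (x * y) = t _ x * t _ y := fun x y => by
      show gmV (toK (K := K) (x * y) ≫ e.hom) = gmV (toK (K := K) x ≫ e.hom) * gmV (toK (K := K) y ≫ e.hom)
      rw [toK_mul]
      exact gmV_comp_mul e _ _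
    have hcv : ∀ x : Tst R C ⟶ G, j (cv x b) = algebraMap R (K ⊗[R] C) π ^ (n₁ + n₂) * t _ (tmap j ≫ x) := fun x => by
      obtain ⟨φ, hφ, hφa⟩ := heval _ (tmap j ≫ x)
      have := hφa b
      rw [cv_tmap] at this
      refine this.trans ?_
      rw [hιb, map_mul, hφ, map_pow]
      exact congrArg (fun z => z ^ (n₁ + n₂) * _) ((φ.restrictScalars R).commutes π)
    refine ⟨hj ?_, fun h => cv_injective (AlgHom.ext fun a => hj ?_)⟩
    · rw [map_mul, map_mul, map_pow, AlgHom.commutes, hcv, hcv, hcv, MonObj.comp_mul, hmul]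
      ring
    · have h' : t _ (tmap j ≫ x) = t _ (tmap j ≫ y) := by
        have := congrArg j h
        rw [hcv, hcv, IsScalarTower.algebraMap_apply R K (K ⊗[R] C), ← map_pow] at this
        exact ((IsUnit.mk0 _ (algebraMap_ne_zero hπ K _)).map (algebraMap K (K ⊗[R] C))).mul_left_cancel this
      have h2 := hinj _ h'
      exact AlgHom.congr_fun ((cv_tmap j x).symm.trans ((congrArg cv h2).trans (cv_tmap j y))) a

end Groth.Agent.LineModel
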