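import Groth.Agent.LineModel.Line

/-!
# Rational points of the closed fibre
-/

set_option autoImplicit false
set_option linter.style.haveILetI false
set_option backward.isDefEq.respectTransparency false
set_option backward.isDefEq.respectTransparency.types false

universe u

open CategoryTheory CategoryTheory.Limits AlgebraicGeometry MonoidalCategory CartesianMonoidalCategory MonObj
  TopologicalSpace
open Groth.Agent.WeilNeutral (Tst pW sfib Rel)

namespace Groth.Agent.LineModel

variable {R : Type u} [CommRing R] [IsDomain R] [IsDiscreteValuationRing R]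
  {G : Over (Spec (CommRingCat.of R))} [GrpObj G] [IsAffine G.left] [Smooth G.hom]

variable (R) in
/-- The point of a field as a test scheme. -/
noncomputable def oneT : 𝟙_ (Over (Spec (CommRingCat.of (IsLocalRing.ResidueField R)))) ⟶
    Tst (IsLocalRing.ResidueField R) (IsLocalRing.ResidueField R) :=
  Over.homMk (𝟙 _) ((Category.id_comp _).trans (Spec.map_id _))

instance : IsIso (oneT R) := by
  haveI : IsIso ((Over.forget _).map (oneT R)) := inferInstanceAs (IsIso (𝟙 _))
  exact isIso_of_reflects_iso (oneT R) (Over.forget _)

variable (G) in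
/-- Points of the closed fibre as rational points of the base change. -/
noncomputable def fibrePt : (Tst R (IsLocalRing.ResidueField R) ⟶ G) →*
    (𝟙_ (Over (Spec (CommRingCat.of (IsLocalRing.ResidueField R)))) ⟶
      Red.bc (Spec.map (CommRingCat.ofHom (IsLocalRing.residue R))) G) :=
  MonoidHom.mk' (fun x => oneT R ≫ toK (K := IsLocalRing.ResidueField R) x) fun x y =>
    (congrArg (fun m => oneT R ≫ m) (toK_mul x y)).trans (MonObj.comp_mul _ _ _)

omit [IsAffine G.left] [Smooth G.hom] in
theorem fibrePt_surjective : Function.Surjective (fibrePt G) := fun z => by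
  obtain ⟨x, hx⟩ := (toK_bijective (K := IsLocalRing.ResidueField R) (G := G)).2 (inv (oneT R) ≫ z)
  exact ⟨x, (congrArg (fun m => oneT R ≫ m) hx).trans (IsIso.hom_inv_id_assoc (oneT R) z)⟩

theorem fibrePt_rel_iff (x y : Tst R (IsLocalRing.ResidueField R) ⟶ G) :
    (fibrePt G x).left (IsLocalRing.closedPoint (IsLocalRing.ResidueField R)) ∈
        connectedComponent ((fibrePt G y).left (IsLocalRing.closedPoint (IsLocalRing.ResidueField R))) ↔
      Rel (IsLocalRing.ResidueField R) x y := by
  haveI : IsClosedImmersion (Spec.map (CommRingCat.ofHom (algebraMap R (IsLocalRing.ResidueField R)))) :=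
    IsClosedImmersion.spec_of_surjective _ Ideal.Quotient.mk_surjective
  have hpt : ∀ x : Tst R (IsLocalRing.ResidueField R) ⟶ G,
      (fibrePt G x).left (IsLocalRing.closedPoint (IsLocalRing.ResidueField R)) =
        (toK (K := IsLocalRing.ResidueField R) x).left (IsLocalRing.closedPoint (IsLocalRing.ResidueField R)) :=
    fun x => rfl
  rw [hpt, hpt]
  show _ ↔ pW x ∈ connectedComponentIn (sfib G) (pW y)
  rw [← toK_apply x, ← toK_apply y, image_component]
  exact ((pullback.fst G.hom (Spec.map (CommRingCat.ofHom (algebraMap R (IsLocalRing.ResidueField R))))).isEmbedding.injective.mem_set_image).symm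

set_option synthInstance.maxHeartbeats 200000 in
omit [Smooth G.hom] [IsAffine G.left] in
theorem fibrePt_unit :
    (η[Red.bc (Spec.map (CommRingCat.ofHom (IsLocalRing.residue R))) G]).left
        (IsLocalRing.closedPoint (IsLocalRing.ResidueField R)) =
      (fibrePt G 1).left (IsLocalRing.closedPoint (IsLocalRing.ResidueField R)) := by
  have h : η[Red.bc (Spec.map (CommRingCat.ofHom (IsLocalRing.residue R))) G] = fibrePt G 1 := by
    rw [map_one]
    rw [MonObj.one_eq_one]

  rw [h]

variable [IsAlgClosed (IsLocalRing.ResidueField R)]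

/-- If every point lies in the neutral component, the closed fibre is connected. -/
theorem connectedSpace_fibre (h : ∀ x : Tst R (IsLocalRing.ResidueField R) ⟶ G, Rel (IsLocalRing.ResidueField R) x 1) :
    ConnectedSpace ↥(Red.bc (Spec.map (CommRingCat.ofHom (IsLocalRing.residue R))) G).left := by
  let Gk := Red.bc (Spec.map (CommRingCat.ofHom (IsLocalRing.residue R))) G
  haveI : NoetherianSpace ↥Gk.left := noetherianSpace_fibre (G := G)
  haveI : Smooth Gk.hom := inferInstanceAs (Smooth (pullback.snd G.hom _))
  haveI : JacobsonSpace ↥Gk.left := LocallyOfFiniteType.jacobsonSpace Gk.hom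
  let z₁ := (fibrePt G 1).left (IsLocalRing.closedPoint (IsLocalRing.ResidueField R))
  refine connectedSpace_iff_connectedComponent.2 ⟨z₁, ?_⟩
  by_contra hne
  obtain ⟨w, hw, hwc⟩ := nonempty_inter_closedPoints (Z := (connectedComponent z₁)ᶜ) (Set.nonempty_compl.2 hne)
    isClosed_connectedComponent.isOpen_compl.isLocallyClosed
  obtain ⟨x, hx⟩ := fibrePt_surjective (G := G)
    (Over.homMk (pointOfClosedPoint Gk.hom w hwc) (pointOfClosedPoint_comp _ _ _))
  refine hw ?_
  have := (fibrePt_rel_iff x 1).2 (h x)
  rw [hx] at this
  exact (pointOfClosedPoint_apply Gk.hom w hwc _) ▸ this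

end Groth.Agent.LineModel
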