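import Groth.Agent.LineModel.GaLine
import Groth.Agent.LineModel.Fibre
import Mathlib.RingTheory.Smooth.Flat

/-!
# Models of the additive group: main results
-/

set_option autoImplicit false
set_option linter.style.haveILetI false
set_option backward.isDefEq.respectTransparency false
set_option backward.isDefEq.respectTransparency.types false

universe u

open CategoryTheory CategoryTheory.Limits AlgebraicGeometry MonoidalCategory CartesianMonoidalCategory MonObj
open Groth.Agent.WeilNeutral (Tst pW Rel)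
open Polynomial

namespace Groth.Agent.LineModel

variable {R : Type u} [CommRing R] [IsDomain R] [IsDiscreteValuationRing R]
  [IsAdicComplete (IsLocalRing.maximalIdeal R) R] [IsAlgClosed (IsLocalRing.ResidueField R)]
  {G : Over (Spec (CommRingCat.of R))} [GrpObj G] [IsAffine G.left] [Smooth G.hom] {π : R} (hπ : Irreducible π)

theorem cv_pow {b : Crd G}
    (hadd : ∀ (C : Type u) [CommRing C] [Algebra R C] [Module.Flat R C] (x y : Tst R C ⟶ G),
      cv (x * y) b = cv x b + cv y b ∧ (cv x b = cv y b → x = y))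
    (x : Tst R R ⟶ G) (d : ℕ) : cv (x ^ d) b = d • cv x b := by
  induction d with
  | zero =>
    have := (hadd R 1 1).1
    rw [_root_.one_mul] at this
    rw [pow_zero, zero_smul]
    exact add_eq_right.1 this.symm
  | succ d ih => rw [pow_succ, (hadd R _ _).1, ih, succ_nsmul]

theorem eq_one_iff_rel {f : Crd G}
    (hc : ∀ x : Tst R (IsLocalRing.ResidueField R) ⟶ G, Rel (IsLocalRing.ResidueField R) x 1 ↔ cv x f ≠ 0)
    (x : Tst R R ⟶ G) : Rel (IsLocalRing.ResidueField R) (red G x) 1 ↔ IsLocalRing.residue R (cv x f) ≠ 0 := by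
  rw [hc, cv_red]

theorem isUnit_cv_one {f : Crd G}
    (hc : ∀ x : Tst R (IsLocalRing.ResidueField R) ⟶ G, Rel (IsLocalRing.ResidueField R) x 1 ↔ cv x f ≠ 0) :
    IsUnit (cv (1 : Tst R R ⟶ G) f) :=
  isUnit_of_residue_ne_zero ((eq_one_iff_rel hc 1).1 (by rw [map_one]; exact Rel.refl Ideal.Quotient.mk_surjective 1))

variable (K : Type u) [Field K] [Algebra R K] [IsFractionRing R K]
  (e : Red.bc (Spec.map (CommRingCat.ofHom (algebraMap R K))) G ≅ Red.Ga (Spec (CommRingCat.of K))) [IsMonHom e.hom]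

include hπ e in
/-- The neutral component is the additive group, and membership in it is a congruence on the coordinate. -/
theorem ga_model :
    ∃ (b : Crd G) (v : ℕ),
      (∀ x : Tst R R ⟶ G, Rel (IsLocalRing.ResidueField R) (red G x) 1 ↔ π ^ v ∣ cv x b) ∧
      (∀ (x : Tst R R ⟶ G) (d : ℕ), cv (x ^ d) b = d • cv x b) ∧
      (∃ j : Red.Ga (Spec (CommRingCat.of R)) ⟶ G, IsMonHom j ∧ IsOpenImmersion j.left) ∧
      ((∀ x : Tst R (IsLocalRing.ResidueField R) ⟶ G, Rel (IsLocalRing.ResidueField R) x 1) →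
        ∃ e' : G ≅ Red.Ga (Spec (CommRingCat.of R)), IsMonHom e'.hom) := by
  haveI := smooth_crd (G := G)
  haveI : Module.Flat R (Crd G) := inferInstance
  obtain ⟨hdom, b, hb, hrel, hadd⟩ := exists_gaCoord hπ K e
  haveI := hdom
  obtain ⟨P, f, hP, hπP, hfP, hf, hc⟩ := exists_component (G := G) hπ
  haveI := hP
  obtain ⟨r, v, hr, hrb, hspan, hsurj, hiff⟩ := exists_gaLine hπ hb hrel hadd hπP hf (isUnit_cv_one hc)
  have hopen : ∀ (r : Crd G →ₐ[R] R[X]) (v : ℕ) (g : Crd G), Function.Injective r → r b = C (π ^ v) * X →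
      Ideal.span {r (algebraMap R (Crd G) π), r g} = ⊤ → (∀ h : R[X], ∃ (N : ℕ) (a : Crd G), r a = r g ^ N * h) →
      IsOpenImmersion (gaToT R ≫ pt r).left ∧
        (r (algebraMap R (Crd G) π) = C π) := by
    intro r v g hr hrb hspan hsurj
    have hπb : ∀ h : R[X], ∃ (N : ℕ) (a : Crd G), r a = r (algebraMap R (Crd G) π) ^ N * h := fun h => by
      induction h using Polynomial.induction_on' with
      | add p q hp hq =>
        obtain ⟨N, a, ha⟩ := hp
        obtain ⟨M, a', ha'⟩ := hq
        exact ⟨N + M, algebraMap R (Crd G) π ^ M * a + algebraMap R (Crd G) π ^ N * a', by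
          rw [map_add, map_mul, map_mul, map_pow, map_pow, ha, ha', pow_add]; ring⟩
      | monomial i c =>
        refine ⟨v * i, algebraMap R (Crd G) c * b ^ i, ?_⟩
        rw [map_mul, map_pow, hrb, AlgHom.commutes, AlgHom.commutes, ← C_mul_X_pow_eq_monomial, mul_pow, pow_mul,
          Polynomial.algebraMap_eq, C_pow]
        ring
    haveI := isIso_gaToT (R := R)
    haveI : IsIso (gaToT R).left := inferInstanceAs (IsIso ((Over.forget _).map (gaToT R)))
    haveI := isOpenImmersion_Spec_of r.toRingHom hr _ g hspan hπb hsurj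
    refine ⟨?_, (r.commutes π).trans (by rw [Polynomial.algebraMap_eq])⟩
    haveI : IsOpenImmersion (pt r).left := by
      haveI : IsIso (isAffineOpen_top G.left).fromSpec := by rw [IsAffineOpen.fromSpec_top]; infer_instance
      exact inferInstanceAs (IsOpenImmersion (Spec.map (CommRingCat.ofHom r.toRingHom) ≫ _))
    exact inferInstanceAs (IsOpenImmersion ((gaToT R).left ≫ (pt r).left))
  refine ⟨b, v, fun x => (eq_one_iff_rel hc x).trans (hiff x), cv_pow hadd,
    ⟨gaToT R ≫ pt r, isMonHom_gaToT_pt r hrb hadd, (hopen r v f hr hrb hspan hsurj).1⟩, fun hall => ?_⟩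
  have hf1 : ∀ Q : Ideal (Crd G), Q.IsPrime → algebraMap R (Crd G) π ∈ Q → ((1 : Crd G) ∉ Q ↔ P ≤ Q) :=
    fun Q hQ hπQ => ⟨fun _ => (hf Q hQ hπQ).1 fun hfQ => ?_,
      fun _ h => hQ.ne_top ((Ideal.eq_top_iff_one _).2 h)⟩
  swap
  · obtain ⟨M, hM, hQM⟩ := Ideal.exists_le_maximal Q hQ.ne_top
    haveI : Algebra.FiniteType R (Crd G) := inferInstance
    letI := Ideal.Quotient.field M
    have hker : IsLocalRing.maximalIdeal R ≤ RingHom.ker (algebraMap R (Crd G ⧸ M)) := by
      rw [(IsDiscreteValuationRing.irreducible_iff_uniformizer π).1 hπ, Ideal.span_singleton_le_iff_mem]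
      exact Ideal.Quotient.eq_zero_iff_mem.2 (hQM hπQ)
    let φ : IsLocalRing.ResidueField R →+* Crd G ⧸ M :=
      Ideal.Quotient.lift _ (algebraMap R (Crd G ⧸ M)) fun r hr => hker hr
    letI := φ.toAlgebra
    haveI : IsScalarTower R (IsLocalRing.ResidueField R) (Crd G ⧸ M) := IsScalarTower.of_algebraMap_eq fun r => rfl
    haveI : Algebra.FiniteType (IsLocalRing.ResidueField R) (Crd G ⧸ M) :=
      Algebra.FiniteType.of_restrictScalars_finiteType R _ _
    haveI : Module.Finite (IsLocalRing.ResidueField R) (Crd G ⧸ M) := finite_of_finite_type_of_isJacobsonRing _ _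
    haveI : Algebra.IsIntegral (IsLocalRing.ResidueField R) (Crd G ⧸ M) := Algebra.IsIntegral.of_finite _ _
    let ψ := AlgEquiv.ofBijective (Algebra.ofId (IsLocalRing.ResidueField R) (Crd G ⧸ M))
      IsAlgClosed.algebraMap_bijective_of_isIntegral
    let g : Crd G →ₐ[R] IsLocalRing.ResidueField R :=
      (ψ.symm.toAlgHom.restrictScalars R).comp (Ideal.Quotient.mkₐ R M)
    have := (hc (pt g)).1 (hall (pt g))
    rw [cv_pt] at this
    exact this (by
      show ψ.symm (Ideal.Quotient.mk M f) = 0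
      rw [Ideal.Quotient.eq_zero_iff_mem.2 (hQM hfQ), map_zero])
  obtain ⟨r, v', hr, hrb, hspan, hsurj, -⟩ := exists_gaLine hπ hb hrel hadd hπP hf1 (by rw [map_one]; exact isUnit_one)
  have hbij : Function.Bijective r := ⟨hr, fun h => by
    obtain ⟨N, a, ha⟩ := hsurj h
    exact ⟨a, by rw [ha, map_one, one_pow, _root_.one_mul]⟩⟩
  haveI := isIso_gaToT (R := R)
  haveI : IsIso (pt r) := by
    haveI : IsIso (isAffineOpen_top G.left).fromSpec := by rw [IsAffineOpen.fromSpec_top]; infer_instance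
    haveI : IsIso (CommRingCat.ofHom r.toRingHom) := (ConcreteCategory.isIso_iff_bijective _).2 hbij
    haveI : IsIso ((Over.forget _).map (pt r)) :=
      inferInstanceAs (IsIso (Spec.map (CommRingCat.ofHom r.toRingHom) ≫ (isAffineOpen_top G.left).fromSpec))
    exact isIso_of_reflects_iso (pt r) (Over.forget _)
  haveI := isMonHom_gaToT_pt r hrb hadd
  exact ⟨(asIso (gaToT R ≫ pt r)).symm, inferInstanceAs (IsMonHom (asIso (gaToT R ≫ pt r)).inv)⟩

end Groth.Agent.LineModel
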