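import Groth.Agent.LineModel.Line
import Groth.Agent.LineModel.Coord

/-!
# Models of the additive group
-/

set_option autoImplicit false
set_option linter.style.haveILetI false
set_option backward.isDefEq.respectTransparency false
set_option backward.isDefEq.respectTransparency.types false

universe u

open CategoryTheory CategoryTheory.Limits AlgebraicGeometry MonoidalCategory CartesianMonoidalCategory MonObj
open Groth.Agent.WeilNeutral (Tst pW Rel)
open Polynomial

namespace Groth.Agent.LineModel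

variable {R : Type u} [CommRing R] [IsDomain R] [IsDiscreteValuationRing R]
  [IsAlgClosed (IsLocalRing.ResidueField R)] {π : R} (hπ : Irreducible π)

theorem isUnit_of_residue_ne_zero {r : R} (h : IsLocalRing.residue R r ≠ 0) : IsUnit r :=
  IsLocalRing.notMem_maximalIdeal.1 fun hm => h ((IsLocalRing.residue_eq_zero_iff r).2 hm)

variable {G : Over (Spec (CommRingCat.of R))} [GrpObj G] [IsAffine G.left] [Smooth G.hom]

include hπ in
/-- The component of the unit of a model of the additive group is a line. -/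
theorem exists_gaLine [IsDomain (Crd G)] {b : Crd G} (hb : b ≠ 0)
    (hrel : ∀ a : Crd G, ∃ (m : ℕ) (h : R[X]), algebraMap R (Crd G) π ^ m * a = aeval b h)
    (hadd : ∀ (C : Type u) [CommRing C] [Algebra R C] [Module.Flat R C] (x y : Tst R C ⟶ G),
      cv (x * y) b = cv x b + cv y b ∧ (cv x b = cv y b → x = y))
    {P : Ideal (Crd G)} [P.IsPrime] {f : Crd G} (hπP : algebraMap R (Crd G) π ∈ P)
    (hf : ∀ Q : Ideal (Crd G), Q.IsPrime → algebraMap R (Crd G) π ∈ Q → (f ∉ Q ↔ P ≤ Q))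
    (hf1 : IsUnit (cv (1 : Tst R R ⟶ G) f)) :
    ∃ (r : Crd G →ₐ[R] R[X]) (v : ℕ), Function.Injective r ∧ r b = C (π ^ v) * X ∧
      Ideal.span {r (algebraMap R (Crd G) π), r f} = ⊤ ∧ (∀ h : R[X], ∃ (N : ℕ) (a : Crd G), r a = r f ^ N * h) ∧
      ∀ x : Tst R R ⟶ G, IsLocalRing.residue R (cv x f) ≠ 0 ↔ π ^ v ∣ cv x b := by
  haveI := smooth_crd (G := G)
  haveI : IsNoetherianRing (Crd G) := Algebra.FiniteType.isNoetherianRing R (Crd G)
  let L := Localization.Away f
  haveI : IsNoetherianRing L := IsLocalization.isNoetherianRing (Submonoid.powers f) L inferInstance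
  have hπA : algebraMap R (Crd G) π ≠ 0 := fun h => by
    have h1 := congrArg (cv (1 : Tst R R ⟶ G)) h
    rw [AlgHom.commutes, map_zero] at h1
    exact hπ.ne_zero h1
  obtain ⟨hLdom, hprime, hdvd⟩ := prime_uniformizer hπ (L := L) hπA hπP hf
  haveI := hLdom
  have hfP : f ∉ P := (hf P inferInstance hπP).2 le_rfl
  have hAL : Function.Injective (algebraMap (Crd G) L) :=
    IsLocalization.injective L (powers_le_nonZeroDivisors_of_noZeroDivisors fun h : f = 0 => hfP (h ▸ P.zero_mem))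
  obtain ⟨v, s, hs, hbs⟩ := exists_eq_pow_mul (R := R) hprime
    (show algebraMap (Crd G) L b ≠ 0 from fun h => hb (hAL (h.trans (map_zero _).symm)))
  let ev (x : Tst R R ⟶ G) (hx : IsUnit (cv x f)) : L →+* R := IsLocalization.Away.lift f hx
  have hev : ∀ (x : Tst R R ⟶ G) (hx : IsUnit (cv x f)) (a : Crd G), ev x hx (algebraMap (Crd G) L a) = cv x a :=
    fun x hx a => IsLocalization.Away.lift_eq f hx a
  have hevR : ∀ (x : Tst R R ⟶ G) (hx : IsUnit (cv x f)) (c : R), ev x hx (algebraMap R L c) = c := fun x hx c => by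
    rw [IsScalarTower.algebraMap_apply R (Crd G) L, hev, AlgHom.commutes]; rfl
  have hevb : ∀ (x : Tst R R ⟶ G) (hx : IsUnit (cv x f)), cv x b = π ^ v * ev x hx s := fun x hx => by
    rw [← hev x hx, hbs, map_mul, map_pow, hevR]
  have hb1 : cv (1 : Tst R R ⟶ G) b = 0 := by
    have := (hadd R 1 1).1
    rw [_root_.one_mul] at this
    exact add_eq_right.1 this.symm
  have htr : ∀ h : R[X], algebraMap R L π ∣ aeval s h → C π ∣ h := fun h hh =>
    tr_of_nonconst hπ hprime (fun c hc => hs ?_) h hh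
  swap
  · obtain ⟨z, hz⟩ := hc
    have hs1 : ev 1 hf1 s = 0 := by
      have h0 := hevb 1 hf1
      rw [hb1, eq_comm, mul_eq_zero] at h0
      exact h0.resolve_left (pow_ne_zero _ hπ.ne_zero)
    have := congrArg (ev 1 hf1) hz
    rw [map_sub, map_mul, hs1, hevR, hevR, zero_sub, neg_eq_iff_eq_neg] at this
    rw [sub_eq_iff_eq_add] at hz
    rw [hz, this, map_neg, map_mul]
    exact dvd_add (dvd_mul_right _ _) (dvd_mul_right _ _).neg_right
  have hinj := aeval_injective hπ hprime htr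
  have hmem : ∀ a : Crd G, ∃ h : R[X], algebraMap (Crd G) L a = aeval s h := fun a => by
    obtain ⟨m, h, hh⟩ := hrel a
    refine exists_of_pow_mul_eq hprime htr (m := m) (h := h.comp (C (π ^ v) * X)) ?_
    have h2 := congrArg (IsScalarTower.toAlgHom R (Crd G) L) hh
    rw [map_mul, map_pow, AlgHom.commutes, ← aeval_algHom_apply] at h2
    rw [aeval_comp, map_mul, aeval_C, aeval_X, map_pow, ← hbs]
    exact h2
  obtain ⟨r, hr⟩ := exists_retract (aeval (R := R) s) hinj (IsScalarTower.toAlgHom R (Crd G) L) fun a =>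
    (hmem a).imp fun h hh => hh.symm
  have hrb : r b = C (π ^ v) * X := hinj (by
    rw [hr, map_mul, aeval_C, aeval_X, map_pow]
    exact hbs)
  have hrP : ∀ a ∈ P, C π ∣ r a := fun a ha => htr _ (by rw [hr]; exact (hdvd a).2 ha)
  have hspan : Ideal.span {r (algebraMap R (Crd G) π), r f} = ⊤ := by
    by_contra hne
    obtain ⟨M, hM, hle⟩ := Ideal.exists_le_maximal _ hne
    haveI := hM.isPrime
    have h1 : r (algebraMap R (Crd G) π) ∈ M := hle (Ideal.subset_span (by simp))
    have h2 : r f ∈ M := hle (Ideal.subset_span (by simp))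
    refine (hf (M.comap r.toRingHom) inferInstance h1).2 (fun a ha => ?_) h2
    obtain ⟨c, hc⟩ := hrP a ha
    show r a ∈ M
    rw [hc]
    rw [AlgHom.commutes] at h1
    exact M.mul_mem_right c h1
  refine ⟨r, v, fun a a' h => hAL (by simpa [hr] using congrArg (aeval (R := R) s) h), hrb, hspan, fun h => ?_,
    fun x => ⟨fun hx => ?_, fun hx => ?_⟩⟩
  · obtain ⟨⟨a, ⟨_, N, rfl⟩⟩, ha⟩ := IsLocalization.surj (Submonoid.powers f) (aeval s h)
    exact ⟨N, a, hinj (by rw [hr, map_mul, map_pow, hr, mul_comm]; simpa using ha.symm)⟩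
  · exact ⟨_, hevb x (isUnit_of_residue_ne_zero hx)⟩
  · obtain ⟨c, hc⟩ := hx
    have he : x = pt ((aeval c).comp r) := (hadd R x _).2 (by
      rw [cv_pt, hc, AlgHom.comp_apply, hrb, map_mul, aeval_C, aeval_X]; rfl)
    intro h0
    rw [he, cv_pt, AlgHom.comp_apply, IsLocalRing.residue_eq_zero_iff] at h0
    let M : Ideal R[X] := (IsLocalRing.maximalIdeal R).comap (aeval (R := R) c).toRingHom
    have h1 : Ideal.span {r (algebraMap R (Crd G) π), r f} ≤ M := by
      rw [Ideal.span_le]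
      rintro _ (rfl | rfl)
      · show aeval c _ ∈ IsLocalRing.maximalIdeal R
        rw [AlgHom.commutes, AlgHom.commutes, (IsDiscreteValuationRing.irreducible_iff_uniformizer π).1 hπ]
        exact Ideal.mem_span_singleton_self π
      · exact h0
    exact (Ideal.IsPrime.comap (K := IsLocalRing.maximalIdeal R) (aeval (R := R) c).toRingHom).ne_top
      (eq_top_iff.2 (hspan ▸ h1))

section GaSpec

omit [IsDomain R] [IsDiscreteValuationRing R] [IsAlgClosed (IsLocalRing.ResidueField R)]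

variable (R) in
/-- The additive group as the affine line. -/
noncomputable def gaToT : Red.Ga (Spec (CommRingCat.of R)) ⟶ Tst R R[X] :=
  mkT _ (aeval (show Crd (Red.Ga (Spec (CommRingCat.of R))) from Red.gaFn (𝟙 (Red.Ga (Spec (CommRingCat.of R))))))

theorem comp_gaToT {T : Over (Spec (CommRingCat.of R))} (x : T ⟶ Red.Ga (Spec (CommRingCat.of R))) :
    x ≫ gaToT R = mkT T (aeval (show Crd T from Red.gaFn x)) := by
  rw [gaToT, comp_mkT, ← aeval_algHom]
  refine congrArg (fun v => mkT T (aeval v)) ?_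
  show x.left.appTop _ = Red.gaFn x
  rw [← GrpSchLib.GaPts.gaFn_comp, Category.comp_id]

theorem mkT_appTop {T : Over (Spec (CommRingCat.of R))} {C : Type u} [CommRing C] [Algebra R C] (φ : C →ₐ[R] Crd T)
    (c : C) : (mkT T φ).left.appTop ((Scheme.ΓSpecIso (CommRingCat.of C)).inv c) = φ c := by
  show (T.left.toSpecΓ ≫ Spec.map (CommRingCat.ofHom φ.toRingHom)).appTop _ = _
  rw [Scheme.Hom.comp_appTop, Scheme.toSpecΓ_appTop]
  show (Scheme.ΓSpecIso Γ(T.left, ⊤)).hom ((Spec.map (CommRingCat.ofHom φ.toRingHom)).appTop _) = _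
  refine (congrArg (fun m => m.hom ((Scheme.ΓSpecIso (CommRingCat.of C)).inv c))
    (Scheme.ΓSpecIso_naturality (CommRingCat.ofHom φ.toRingHom))).trans ?_
  show φ.toRingHom ((Scheme.ΓSpecIso (CommRingCat.of C)).hom ((Scheme.ΓSpecIso (CommRingCat.of C)).inv c)) = _
  rw [Iso.inv_hom_id_apply]
  rfl

theorem mkT_self (C : Type u) [CommRing C] [Algebra R C] :
    ∃ φ : C →ₐ[R] Crd (Tst R C), mkT (Tst R C) φ = 𝟙 _ ∧
      ∀ c, φ c = (Scheme.ΓSpecIso (CommRingCat.of C)).inv c := by
  let φ : C →ₐ[R] Crd (Tst R C) :=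
    { toRingHom := (Scheme.ΓSpecIso (CommRingCat.of C)).inv.hom
      commutes' := fun r => by
        show (CommRingCat.ofHom (algebraMap R C) ≫ (Scheme.ΓSpecIso (CommRingCat.of C)).inv).hom r =
          ((Scheme.ΓSpecIso (CommRingCat.of R)).inv ≫ (Tst R C).hom.appLE ⊤ ⊤ le_top).hom r
        rw [appLE_top, Scheme.ΓSpecIso_inv_naturality]
        rfl }
  refine ⟨φ, Over.OverMorphism.ext ?_, fun c => rfl⟩
  show (Spec (CommRingCat.of C)).toSpecΓ ≫ Spec.map (Scheme.ΓSpecIso (CommRingCat.of C)).inv = 𝟙 _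
  rw [← SpecMap_ΓSpecIso_hom, ← Spec.map_comp, Iso.inv_hom_id, Spec.map_id]

theorem isIso_gaToT : IsIso (gaToT R) := by
  let u : Tst R R[X] ⟶ Red.Ga (Spec (CommRingCat.of R)) :=
    GrpSchLib.GaPts.ptOfFn ((Scheme.ΓSpecIso (CommRingCat.of R[X])).inv X)
  refine ⟨u, GrpSchLib.GaPts.gaFn_injective ?_, ?_⟩
  · show Red.gaFn (gaToT R ≫ u) = Red.gaFn (𝟙 _)
    rw [GrpSchLib.GaPts.gaFn_comp, GrpSchLib.GaPts.gaFn_ptOfFn, gaToT, mkT_appTop, aeval_X]
  · obtain ⟨φ, hφ, hφc⟩ := mkT_self (R := R) R[X]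
    rw [comp_gaToT, ← hφ, GrpSchLib.GaPts.gaFn_ptOfFn]
    refine congrArg _ (algHom_ext ?_)
    rw [aeval_X, hφc]

variable {G : Over (Spec (CommRingCat.of R))} [GrpObj G] [IsAffine G.left]

set_option synthInstance.maxHeartbeats 200000 in
set_option maxHeartbeats 1000000 in
/-- A line in coordinates gives a homomorphism from the additive group. -/
theorem isMonHom_gaToT_pt {b : Crd G} (r : Crd G →ₐ[R] R[X]) {c : R} (hrb : r b = C c * X)
    (hadd : ∀ (C : Type u) [CommRing C] [Algebra R C] [Module.Flat R C] (x y : Tst R C ⟶ G),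
      cv (x * y) b = cv x b + cv y b ∧ (cv x b = cv y b → x = y)) :
    IsMonHom (gaToT R ≫ pt r) := by
  have hmul : ∀ (T : Over (Spec (CommRingCat.of R))) (x y : T ⟶ Red.Ga (Spec (CommRingCat.of R))),
      (x * y) ≫ gaToT R ≫ pt r = (x ≫ gaToT R ≫ pt r) * (y ≫ gaToT R ≫ pt r) := by
    intro T x y
    let C₂ := MvPolynomial (Fin 2) R
    let P (p : C₂) : Tst R C₂ ⟶ G := pt ((aeval p).comp r)
    let w : T ⟶ Tst R C₂ := mkT T (MvPolynomial.aeval ![(show Crd T from Red.gaFn x), (show Crd T from Red.gaFn y)])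
    have hu : P (MvPolynomial.X 0 + MvPolynomial.X 1) = P (MvPolynomial.X 0) * P (MvPolynomial.X 1) := by
      refine (hadd C₂ _ _).2 ?_
      rw [(hadd C₂ _ _).1]
      simp only [P, cv_pt, AlgHom.comp_apply, hrb, map_mul, aeval_X, aeval_C, mul_add]
    have key : ∀ (p : C₂), w ≫ P p = mkT T (aeval ((MvPolynomial.aeval
        ![(show Crd T from Red.gaFn x), (show Crd T from Red.gaFn y)]) p)) ≫ pt r := fun p => by
      show w ≫ pt ((aeval p).comp r) = _
      rw [← tmap_pt r (aeval p), ← Category.assoc, mkT_tmap, aeval_algHom]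
    have hx : x ≫ gaToT R ≫ pt r = w ≫ P (MvPolynomial.X 0) := by
      rw [key, ← Category.assoc, comp_gaToT]; simp
    have hy : y ≫ gaToT R ≫ pt r = w ≫ P (MvPolynomial.X 1) := by
      rw [key, ← Category.assoc, comp_gaToT]; simp
    have hxy : (x * y) ≫ gaToT R ≫ pt r = w ≫ P (MvPolynomial.X 0 + MvPolynomial.X 1) := by
      rw [key, ← Category.assoc, comp_gaToT]
      refine congrArg (fun v : Crd T => mkT T (aeval v) ≫ pt r) ?_
      show Red.gaFn (x * y) = _
      rw [GrpSchLib.GaPts.gaFn_mul]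
      simp
    rw [hxy, hu, MonObj.comp_mul, hx, hy]
  refine ⟨?_, ?_⟩
  · have h1 := hmul (𝟙_ _) 1 1
    have h0 := congrArg (fun z => z ≫ gaToT R ≫ pt r)
      (_root_.one_mul (1 : 𝟙_ (Over (Spec (CommRingCat.of R))) ⟶ Red.Ga (Spec (CommRingCat.of R))))
    replace h1 := h0.symm.trans h1
    have h2 : (1 : 𝟙_ _ ⟶ Red.Ga (Spec (CommRingCat.of R))) ≫ gaToT R ≫ pt r = 1 := left_eq_mul.1 h1
    rwa [MonObj.one_eq_one, MonObj.one_eq_one]
  · have h1 := hmul (Red.Ga (Spec (CommRingCat.of R)) ⊗ Red.Ga (Spec (CommRingCat.of R))) (fst _ _) (snd _ _)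
    rw [← MonObj.mul_eq_mul, Hom.mul_def] at h1
    rw [h1]
    congr 1

end GaSpec

end Groth.Agent.LineModel
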