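import Groth.Agent.LineModel.GmSpec
import Groth.Agent.LineModel.Fibre
import Groth.Agent.LineModel.Ga

/-!
# Models of the multiplicative group
-/

set_option autoImplicit false
set_option linter.style.haveILetI false
set_option backward.isDefEq.respectTransparency false
set_option backward.isDefEq.respectTransparency.types false

universe u

open CategoryTheory CategoryTheory.Limits AlgebraicGeometry MonoidalCategory CartesianMonoidalCategory MonObj
open Groth.Agent.WeilNeutral (Tst pW Rel)
open Polynomial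

namespace Groth.Agent.LineModel

section Algebra

variable {R : Type u} [CommRing R] [IsDomain R] [IsDiscreteValuationRing R] {π : R} (hπ : Irreducible π)
  {A : Type u} [CommRing A] [Algebra R A]

include hπ in
/-- The coordinate ring sits inside a localised line. -/
theorem exists_line {b : A} {n : ℕ} {P : Ideal A} [P.IsPrime] {f : A}
    (hrel : ∀ a : A, ∃ (m N : ℕ) (h : R[X]), algebraMap R A π ^ m * b ^ N * a = aeval b h)
    (hf : ∀ Q : Ideal A, Q.IsPrime → algebraMap R A π ∈ Q → (f ∉ Q ↔ P ≤ Q))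
    [IsDomain (Localization.Away f)] (hAL : Function.Injective (algebraMap A (Localization.Away f)))
    (hprime : Prime (algebraMap R (Localization.Away f) π))
    (hdvd : ∀ a : A, algebraMap R (Localization.Away f) π ∣ algebraMap A _ a ↔ a ∈ P)
    {s : Localization.Away f} {q : R[X]} (hqs : IsUnit (aeval s q))
    (hbs : algebraMap A (Localization.Away f) b = algebraMap R _ π ^ n * aeval s q)
    (htr : ∀ h : R[X], algebraMap R (Localization.Away f) π ∣ aeval s h → C π ∣ h) :
    ∃ r : A →ₐ[R] Localization.Away q, Function.Injective r ∧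
      r b = algebraMap R _ (π ^ n) * algebraMap R[X] _ q ∧
      Ideal.span {r (algebraMap R A π), r f} = ⊤ ∧ ∀ w : Localization.Away q, ∃ (N : ℕ) (a : A), r a = r f ^ N * w := by
  let Ψ := evq q s hqs
  have hq0 : q ≠ 0 := fun h => by
    rw [h, map_zero] at hqs
    exact not_isUnit_zero hqs
  have hinj : Function.Injective (aeval (R := R) s) := aeval_injective hπ hprime htr
  have hΨ : Function.Injective Ψ := (injective_iff_map_eq_zero _).2 fun w hw => by
    obtain ⟨⟨p, ⟨_, N, rfl⟩⟩, hp⟩ := IsLocalization.surj (Submonoid.powers q) w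
    have h1 := congrArg Ψ hp
    rw [map_mul, hw, zero_mul, evq_algebraMap] at h1
    have h2 : p = 0 := hinj (h1.symm.trans (map_zero _).symm)
    rw [h2, map_zero] at hp
    exact (IsLocalization.map_units (Localization.Away q) (⟨q ^ N, N, rfl⟩ : Submonoid.powers q)).mul_left_eq_zero.1 hp
  have hmem : ∀ a : A, ∃ w, Ψ w = algebraMap A (Localization.Away f) a := fun a => by
    obtain ⟨m, N, h, hh⟩ := hrel a
    obtain ⟨p, hp⟩ := exists_of_pow_mul_eq (s := s) hprime htr (m := m + n * N)
      (x := aeval s q ^ N * algebraMap A (Localization.Away f) a) (h := h.comp (C (π ^ n) * q)) (by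
        have h2 := congrArg (IsScalarTower.toAlgHom R A (Localization.Away f)) hh
        rw [map_mul, map_mul, map_pow, map_pow, AlgHom.commutes, ← aeval_algHom_apply] at h2
        rw [aeval_comp, map_mul, aeval_C, map_pow, ← hbs]
        refine Eq.trans ?_ h2
        show _ = _ * algebraMap A (Localization.Away f) b ^ N * algebraMap A (Localization.Away f) a
        rw [hbs, mul_pow, pow_add, pow_mul]
        ring)
    have hu : IsUnit (algebraMap R[X] (Localization.Away q) q ^ N) := (IsLocalization.Away.algebraMap_isUnit q).pow N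
    refine ⟨algebraMap R[X] _ p * ↑hu.unit⁻¹, (hqs.pow N).mul_left_cancel (Eq.trans ?_ hp.symm)⟩
    rw [← evq_algebraMap q s hqs p, ← evq_algebraMap q s hqs q, ← map_pow Ψ, ← map_mul, mul_left_comm,
      IsUnit.mul_val_inv, _root_.mul_one]
  obtain ⟨r, hr⟩ := exists_retract Ψ hΨ (IsScalarTower.toAlgHom R A (Localization.Away f)) hmem
  refine ⟨r, fun a a' h => hAL (by simpa [hr] using congrArg Ψ h), hΨ ?_, ?_, fun w => ?_⟩
  · rw [hr, map_mul, AlgHom.commutes, evq_algebraMap, map_pow]
    exact hbs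
  · by_contra hne
    obtain ⟨M, hM, hle⟩ := Ideal.exists_le_maximal _ hne
    haveI := hM.isPrime
    have h1 : r (algebraMap R A π) ∈ M := hle (Ideal.subset_span (by simp))
    have h2 : r f ∈ M := hle (Ideal.subset_span (by simp))
    refine (hf (M.comap r.toRingHom) inferInstance h1).2 (fun a ha => ?_) h2
    show r a ∈ M
    obtain ⟨⟨p, ⟨_, N, rfl⟩⟩, hp⟩ := IsLocalization.surj (Submonoid.powers q) (r a)
    have h3 := congrArg Ψ hp
    rw [map_mul, hr, evq_algebraMap, evq_algebraMap, map_pow] at h3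
    obtain ⟨p', rfl⟩ := htr p (h3 ▸ dvd_mul_of_dvd_left ((hdvd a).2 ha) _)
    have h4 : algebraMap R[X] (Localization.Away q) (C π * p') ∈ M := by
      rw [map_mul]
      refine M.mul_mem_right _ ?_
      rw [AlgHom.commutes] at h1
      exact h1
    rw [← hp] at h4
    exact (hM.isPrime.mem_or_mem h4).resolve_right fun h5 =>
      hM.ne_top (Ideal.eq_top_of_isUnit_mem _ h5 (IsLocalization.map_units (Localization.Away q) (⟨q ^ N, ⟨N, rfl⟩⟩ : Submonoid.powers q)))
  · obtain ⟨⟨a, ⟨_, N, rfl⟩⟩, ha⟩ := IsLocalization.surj (Submonoid.powers f) (Ψ w)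
    refine ⟨N, a, hΨ ?_⟩
    rw [hr, map_mul, map_pow, hr, mul_comm]
    simpa using ha.symm

theorem geom_dvd {p : ℕ} {T : R} {v : ℕ} (hp : (p : R) ∈ IsLocalRing.maximalIdeal R) (hv : π ∣ T - 1)
    (hm : IsLocalRing.maximalIdeal R = Ideal.span {π}) : π ^ v ∣ T ^ (p ^ v) - 1 := by
  induction v with
  | zero => simp
  | succ v ih =>
    have key : ∀ U : R, π ∣ U - 1 → π ∣ ∑ i ∈ Finset.range p, U ^ i := fun U hU => by
      have h1 : (∑ i ∈ Finset.range p, U ^ i) = (∑ i ∈ Finset.range p, (U ^ i - 1)) + p := by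
        simp [Finset.sum_sub_distrib]
      rw [h1]
      refine dvd_add (Finset.dvd_sum fun i _ => hU.trans ?_) ?_
      · simpa using sub_dvd_pow_sub_pow U 1 i
      · rwa [hm, Ideal.mem_span_singleton] at hp
    rw [pow_succ π, pow_succ p, pow_mul, ← geom_sum_mul, mul_comm (π ^ v)]
    exact mul_dvd_mul (key _ (hv.trans (by simpa using sub_dvd_pow_sub_pow T 1 (p ^ v)))) ih

theorem dvd_sub_one_of_dvd_pow_sub_one {T : R} {v d : ℕ} (hv : π ∣ T - 1) (hd : ¬ π ∣ (d : R))
    (hπ : Irreducible π) (h : π ^ v ∣ T ^ d - 1) : π ^ v ∣ T - 1 := by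
  rw [← geom_sum_mul] at h
  refine (Prime.pow_dvd_of_dvd_mul_left hπ.prime v (fun h' => hd ?_) h)
  have h1 : (d : R) = (∑ i ∈ Finset.range d, T ^ i) - ∑ i ∈ Finset.range d, (T ^ i - 1) := by
    simp [Finset.sum_sub_distrib]
  rw [h1]
  exact dvd_sub h' (Finset.dvd_sum fun i _ => hv.trans (by simpa using sub_dvd_pow_sub_pow T 1 i))

end Algebra

variable {R : Type u} [CommRing R] [IsDomain R] [IsDiscreteValuationRing R]
  [IsAdicComplete (IsLocalRing.maximalIdeal R) R] [IsAlgClosed (IsLocalRing.ResidueField R)] {π : R} (hπ : Irreducible π)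
  {G : Over (Spec (CommRingCat.of R))} [GrpObj G] [IsAffine G.left] [Smooth G.hom]

theorem residue_eq_iff_dvd (hπ : Irreducible π) (a b : R) :
    IsLocalRing.residue R a = IsLocalRing.residue R b ↔ π ∣ a - b := by
  rw [← sub_eq_zero, ← map_sub, IsLocalRing.residue_eq_zero_iff,
    (IsDiscreteValuationRing.irreducible_iff_uniformizer π).1 hπ, Ideal.mem_span_singleton]

/-- Points with given parameter lie in the component. -/
theorem linePoint_rel {q : R[X]} {P : Ideal (Crd G)} {f : Crd G} (hπ : Irreducible π)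
    (r : Crd G →ₐ[R] Localization.Away q) (hspan : Ideal.span {r (algebraMap R (Crd G) π), r f} = ⊤)
    (hc : ∀ x : Tst R (IsLocalRing.ResidueField R) ⟶ G, Rel (IsLocalRing.ResidueField R) x 1 ↔ cv x f ≠ 0)
    (_hP : algebraMap R (Crd G) π ∈ P) (a : R) (ha : IsUnit (aeval a q)) :
    Rel (IsLocalRing.ResidueField R) (red G (pt ((evq q a ha).comp r))) 1 := by
  rw [eq_one_iff_rel hc, cv_pt]
  intro h0
  rw [AlgHom.comp_apply, IsLocalRing.residue_eq_zero_iff] at h0
  have h1 : Ideal.span {r (algebraMap R (Crd G) π), r f} ≤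
      (IsLocalRing.maximalIdeal R).comap (evq q a ha).toRingHom := by
    rw [Ideal.span_le]
    rintro _ (rfl | rfl)
    · show evq q a ha _ ∈ IsLocalRing.maximalIdeal R
      rw [AlgHom.commutes, AlgHom.commutes, (IsDiscreteValuationRing.irreducible_iff_uniformizer π).1 hπ]
      exact Ideal.mem_span_singleton_self π
    · exact h0
  exact (Ideal.IsPrime.comap (K := IsLocalRing.maximalIdeal R) (evq q a ha).toRingHom).ne_top
    (eq_top_iff.2 (hspan ▸ h1))

/-- If every point lies in the component, the function of the component is nowhere zero on the closed fibre. -/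
theorem not_mem_of_all_rel (hπ : Irreducible π) {f : Crd G}
    (hc : ∀ x : Tst R (IsLocalRing.ResidueField R) ⟶ G, Rel (IsLocalRing.ResidueField R) x 1 ↔ cv x f ≠ 0)
    (hall : ∀ x : Tst R (IsLocalRing.ResidueField R) ⟶ G, Rel (IsLocalRing.ResidueField R) x 1)
    (Q : Ideal (Crd G)) (hQ : Q.IsPrime) (hπQ : algebraMap R (Crd G) π ∈ Q) : f ∉ Q := fun hfQ => by
  haveI := smooth_crd (G := G)
  obtain ⟨M, hM, hQM⟩ := Ideal.exists_le_maximal Q hQ.ne_top
  haveI : Algebra.FiniteType R (Crd G) := inferInstance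
  letI := Ideal.Quotient.field M
  have hker : IsLocalRing.maximalIdeal R ≤ RingHom.ker (algebraMap R (Crd G ⧸ M)) := by
    rw [(IsDiscreteValuationRing.irreducible_iff_uniformizer π).1 hπ, Ideal.span_singleton_le_iff_mem]
    exact Ideal.Quotient.eq_zero_iff_mem.2 (hQM hπQ)
  let φ : IsLocalRing.ResidueField R →+* Crd G ⧸ M :=
    Ideal.Quotient.lift _ (algebraMap R (Crd G ⧸ M)) fun r hr => hker hr
  letI := φ.toAlgebra
  haveI : IsScalarTower R (IsLocalRing.ResidueField R) (Crd G ⧸ M) := IsScalarTower.of_algebraMap_eq fun r => rfl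
  haveI : Algebra.FiniteType (IsLocalRing.ResidueField R) (Crd G ⧸ M) :=
    Algebra.FiniteType.of_restrictScalars_finiteType R _ _
  haveI : Module.Finite (IsLocalRing.ResidueField R) (Crd G ⧸ M) := finite_of_finite_type_of_isJacobsonRing _ _
  haveI : Algebra.IsIntegral (IsLocalRing.ResidueField R) (Crd G ⧸ M) := Algebra.IsIntegral.of_finite _ _
  let ψ := AlgEquiv.ofBijective (Algebra.ofId (IsLocalRing.ResidueField R) (Crd G ⧸ M))
    IsAlgClosed.algebraMap_bijective_of_isIntegral
  let g : Crd G →ₐ[R] IsLocalRing.ResidueField R :=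
    (ψ.symm.toAlgHom.restrictScalars R).comp (Ideal.Quotient.mkₐ R M)
  have h := (hc (pt g)).1 (hall (pt g))
  rw [cv_pt] at h
  exact h (by
    show ψ.symm (Ideal.Quotient.mk M f) = 0
    rw [Ideal.Quotient.eq_zero_iff_mem.2 (hQM hfQ), map_zero])

variable (K : Type u) [Field K] [Algebra R K] [IsFractionRing R K]
  (e : Red.bc (Spec.map (CommRingCat.ofHom (algebraMap R K))) G ≅ Red.Gm (Spec (CommRingCat.of K))) [IsMonHom e.hom]

include hπ e in
/-- The reduction of the coordinate is either nonconstant, and the model is the multiplicative group, or it is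
constant, and the component is cut out by a congruence on the coordinate. -/
theorem gm_model :
    ∃ (T : (Tst R R ⟶ G) →* Rˣ) (P : Ideal (Crd G)) (f : Crd G) (s : Localization.Away f),
      P.IsPrime ∧ algebraMap R (Crd G) π ∈ P ∧
      (∀ Q : Ideal (Crd G), Q.IsPrime → algebraMap R (Crd G) π ∈ Q → (f ∉ Q ↔ P ≤ Q)) ∧
      (∀ x : Tst R (IsLocalRing.ResidueField R) ⟶ G, Rel (IsLocalRing.ResidueField R) x 1 ↔ cv x f ≠ 0) ∧
      (∀ a : Crd G, algebraMap R (Localization.Away f) π ∣ algebraMap _ _ a ↔ a ∈ P) ∧ IsUnit s ∧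
      (((∀ c : R, ¬ algebraMap R (Localization.Away f) π ∣ s - algebraMap R _ c) ∧
          (∀ x : Tst R (IsLocalRing.ResidueField R) ⟶ G, Rel (IsLocalRing.ResidueField R) x 1) ∧
          ∃ e' : G ≅ Red.Gm (Spec (CommRingCat.of R)), IsMonHom e'.hom) ∨
        (algebraMap R (Localization.Away f) π ∣ s - 1 ∧
          (∀ x : Tst R R ⟶ G, Rel (IsLocalRing.ResidueField R) (red G x) 1 → π ∣ (T x : R) - 1) ∧
          (∃ v : ℕ, ∀ x : Tst R R ⟶ G, Rel (IsLocalRing.ResidueField R) (red G x) 1 ↔ π ^ v ∣ (T x : R) - 1) ∧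
          ∀ (x : Tst R (IsLocalRing.ResidueField R) ⟶ G) (d : ℕ), (d : IsLocalRing.ResidueField R) ≠ 0 →
            Rel (IsLocalRing.ResidueField R) x 1 → x ^ d = 1 → x = 1)) := by
  haveI := smooth_crd (G := G)
  haveI : IsNoetherianRing (Crd G) := Algebra.FiniteType.isNoetherianRing R (Crd G)
  obtain ⟨hdom, n, b, c, hbc, hbne, hrel, hmul⟩ := exists_gmCoord hπ K e
  haveI := hdom
  obtain ⟨P, f, hP, hπP, hfP, hf, hcomp⟩ := exists_component (G := G) hπ
  haveI := hP
  let L := Localization.Away f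
  haveI : IsNoetherianRing L := IsLocalization.isNoetherianRing (Submonoid.powers f) L inferInstance
  have hπA : algebraMap R (Crd G) π ≠ 0 := fun h => by
    have h1 := congrArg (cv (1 : Tst R R ⟶ G)) h
    rw [AlgHom.commutes, map_zero] at h1
    exact hπ.ne_zero h1
  obtain ⟨hLdom, hprime, hdvd⟩ := prime_uniformizer hπ (L := L) hπA hπP hf
  haveI := hLdom
  have hAL : Function.Injective (algebraMap (Crd G) L) :=
    IsLocalization.injective L (powers_le_nonZeroDivisors_of_noZeroDivisors fun h : f = 0 => hfP (h ▸ P.zero_mem))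
  -- evaluation at points of the component
  let ev (x : Tst R R ⟶ G) (hx : IsUnit (cv x f)) : L →+* R := IsLocalization.Away.lift f hx
  have hev : ∀ (x : Tst R R ⟶ G) (hx : IsUnit (cv x f)) (a : Crd G), ev x hx (algebraMap (Crd G) L a) = cv x a :=
    fun x hx a => IsLocalization.Away.lift_eq f hx a
  have hevR : ∀ (x : Tst R R ⟶ G) (hx : IsUnit (cv x f)) (c : R), ev x hx (algebraMap R L c) = c := fun x hx c => by
    rw [IsScalarTower.algebraMap_apply R (Crd G) L, hev, AlgHom.commutes]; rfl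
  have hf1 : IsUnit (cv (1 : Tst R R ⟶ G) f) := isUnit_cv_one hcomp
  have hπn : ∀ m : ℕ, π ^ m ≠ 0 := fun m => pow_ne_zero m hπ.ne_zero
  -- the unit in the localisation
  have hbc0 : ∀ x : Tst R R ⟶ G, cv x b * cv x c = π ^ (2 * n) := fun x => by
    rw [← map_mul, hbc, map_pow, AlgHom.commutes]; rfl
  have hb1 : cv (1 : Tst R R ⟶ G) b = π ^ n := by
    have h1 := (hmul R 1 1).1
    rw [_root_.one_mul] at h1
    refine mul_right_cancel₀ (fun h0 => hπn (2 * n) ?_) h1.symm
    rw [← hbc0 1, h0, zero_mul]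
  have hc1 : cv (1 : Tst R R ⟶ G) c = π ^ n := by
    refine mul_left_cancel₀ (hπn n) ?_
    rw [← hb1, hbc0, hb1, two_mul, pow_add]
  have hLne : ∀ a : Crd G, cv (1 : Tst R R ⟶ G) a = π ^ n → algebraMap (Crd G) L a ≠ 0 := fun a ha h => by
    have := congrArg (ev 1 hf1) h
    rw [hev, ha, map_zero] at this
    exact hπn n this
  obtain ⟨w, s, hs, hbs⟩ := exists_eq_pow_mul (R := R) hprime (hLne b hb1)
  obtain ⟨w', s', hs', hcs⟩ := exists_eq_pow_mul (R := R) hprime (hLne c hc1)
  have hle : ∀ {a : Crd G} {w : ℕ} {s : L}, cv (1 : Tst R R ⟶ G) a = π ^ n →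
      algebraMap (Crd G) L a = algebraMap R L π ^ w * s → w ≤ n := fun {a w s} ha h => by
    refine (pow_dvd_pow_iff hπ.ne_zero hπ.not_isUnit).1 ⟨ev 1 hf1 s, ?_⟩
    rw [← ha, ← hev 1 hf1, h, map_mul, map_pow, hevR]
  have hw := hle hb1 hbs
  have hw' := hle hc1 hcs
  have hprod : algebraMap R L π ^ (w + w') * (s * s') = algebraMap R L π ^ (2 * n) := by
    have h := congrArg (algebraMap (Crd G) L) hbc
    rw [map_mul, hbs, hcs, map_pow, ← IsScalarTower.algebraMap_apply] at h
    rw [← h, pow_add]; ring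
  have hww : w + w' = 2 * n := by
    by_contra hne
    obtain ⟨k, hk⟩ := Nat.exists_eq_add_of_lt (show w + w' < 2 * n by omega)
    rw [hk, show w + w' + k + 1 = (w + w') + (k + 1) by omega, pow_add _ (w + w') (k + 1)] at hprod
    exact (hprime.dvd_or_dvd (mul_left_cancel₀ (pow_ne_zero _ hprime.ne_zero) hprod ▸
      dvd_pow_self _ k.succ_ne_zero)).elim hs hs'
  have hwn : w = n := by omega
  subst hwn
  have hsu : IsUnit s := IsUnit.of_mul_eq_one s' (by
    rw [hww] at hprod
    exact mul_left_cancel₀ (pow_ne_zero _ hprime.ne_zero) (hprod.trans (_root_.mul_one _).symm))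
  -- the coordinate of a point
  have hpow : ∀ (x : Tst R R ⟶ G) (d : ℕ), π ^ (w * d) * cv (x ^ d) b = π ^ w * cv x b ^ d := fun x d => by
    induction d with
    | zero => simp [hb1]
    | succ d ih =>
      have h1 : π ^ w * cv (x ^ d * x) b = cv (x ^ d) b * cv x b := (hmul R (x ^ d) x).1
      rw [pow_succ x, Nat.mul_succ, pow_add, _root_.mul_assoc, h1, ← _root_.mul_assoc, ih]
      ring
  have hevb : ∀ (x : Tst R R ⟶ G) (hx : IsUnit (cv x f)), cv x b = π ^ w * ev x hx s := fun x hx => by
    rw [← hev x hx, hbs, map_mul, map_pow, hevR]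
  have hT : ∀ x : Tst R R ⟶ G, ∃ t : Rˣ, cv x b = π ^ w * t := fun x => by
    obtain ⟨d, hd, hdrel⟩ := exists_pow_rel (red G x)
    rw [← map_pow] at hdrel
    have hx := isUnit_of_residue_ne_zero ((eq_one_iff_rel hcomp _).1 hdrel)
    have h1 : cv x b ^ d = π ^ (w * d) * ev _ hx s := by
      refine mul_left_cancel₀ (hπn w) ?_
      rw [← hpow, hevb _ hx]; ring
    have hb0 : cv x b ≠ 0 := fun h0 => hπn (2 * w) (by rw [← hbc0 x, h0, zero_mul])
    obtain ⟨k, t, ht⟩ := IsDiscreteValuationRing.eq_unit_mul_pow_irreducible hb0 hπ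
    rw [ht, mul_pow, ← pow_mul] at h1
    have hkd : k * d = w * d := by
      refine le_antisymm ((pow_dvd_pow_iff hπ.ne_zero hπ.not_isUnit).1 ?_)
        ((pow_dvd_pow_iff hπ.ne_zero hπ.not_isUnit).1 ?_)
      · exact (hsu.map (ev _ hx)).dvd_mul_right.1 (Dvd.intro_left _ h1)
      · exact ((t.isUnit.pow d).dvd_mul_left).1 (Dvd.intro _ h1.symm)
    exact ⟨t, by rw [ht, Nat.eq_of_mul_eq_mul_right hd hkd, mul_comm]⟩
  choose t ht using hT
  let T : (Tst R R ⟶ G) →* Rˣ := MonoidHom.mk' t fun x y => Units.ext (by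
    have h := (hmul R x y).1
    rw [ht, ht, ht] at h
    have h' : π ^ w * (π ^ w * (t (x * y) : R)) = π ^ w * (π ^ w * ((t x : R) * t y)) := by
      refine h.trans ?_; ring
    rw [Units.val_mul]
    exact mul_left_cancel₀ (hπn w) (mul_left_cancel₀ (hπn w) h'))
  have hevT : ∀ (x : Tst R R ⟶ G) (hx : IsUnit (cv x f)), (T x : R) = ev x hx s := fun x hx =>
    mul_left_cancel₀ (hπn w) ((ht x).symm.trans (hevb x hx))
  have hev1 : ev 1 hf1 s = 1 := by rw [← hevT, map_one, Units.val_one]
  refine ⟨T, P, f, s, hP, hπP, hf, hcomp, hdvd, hsu, ?_⟩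
  by_cases hcase : ∀ c : R, ¬ algebraMap R L π ∣ s - algebraMap R L c
  · -- nonconstant
    have hall : ∀ x : Tst R (IsLocalRing.ResidueField R) ⟶ G, Rel (IsLocalRing.ResidueField R) x 1 := fun x => by
      obtain ⟨y, rfl⟩ := red_surjective (G := G) x
      obtain ⟨r, -, hrb, hspan, -⟩ := exists_line hπ (q := X) hrel hf hAL hprime hdvd
        (s := s) (isUnit_aeval_X hsu) (by rw [aeval_X]; exact hbs)
        (fun h hh => tr_of_nonconst hπ hprime hcase h hh)
      have hu : IsUnit ((t y : R)) := (t y).isUnit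
      have he : y = pt ((evU (t y : R) hu).comp r) := (hmul R y _).2 (by
        rw [cv_pt, AlgHom.comp_apply, hrb, map_mul, AlgHom.commutes, evq_algebraMap, aeval_X, ht]
        rfl)
      rw [he]
      exact linePoint_rel hπ r hspan hcomp hπP _ (isUnit_aeval_X hu)
    refine Or.inl ⟨hcase, hall, ?_⟩
    obtain ⟨r, hr, hrb, -, -⟩ := exists_line hπ (q := X) hrel hf hAL hprime hdvd
      (s := s) (isUnit_aeval_X hsu) (by rw [aeval_X]; exact hbs)
      (fun h hh => tr_of_nonconst hπ hprime hcase h hh)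
    -- on a connected fibre division by the uniformiser happens in the coordinate ring
    have hPπ : ∀ a ∈ P, algebraMap R (Crd G) π ∣ a := fun a ha => by
      have hrad : a ∈ (Ideal.span {algebraMap R (Crd G) π}).radical := by
        rw [Ideal.radical_eq_sInf, Ideal.mem_sInf]
        rintro Q ⟨hQ, hQp⟩
        have hπQ : algebraMap R (Crd G) π ∈ Q := hQ (Ideal.mem_span_singleton_self _)
        exact (hf Q hQp hπQ).1 (not_mem_of_all_rel hπ hcomp hall Q hQp hπQ) ha
      obtain ⟨m, hm⟩ := hrad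
      exact mem_span_of_pow_mem hπ (Ideal.mem_span_singleton.1 hm)
    have hdiv : ∀ (k : ℕ) (a : Crd G) (y : L), algebraMap (Crd G) L a = algebraMap R L π ^ k * y →
        ∃ a', a = algebraMap R (Crd G) π ^ k * a' ∧ algebraMap (Crd G) L a' = y := by
      intro k
      induction k with
      | zero => exact fun a y h => ⟨a, by simp, by simpa using h⟩
      | succ k ih =>
        intro a y h
        rw [pow_succ', _root_.mul_assoc] at h
        obtain ⟨a₁, rfl⟩ := hPπ a ((hdvd a).1 ⟨_, h⟩)
        rw [map_mul, ← IsScalarTower.algebraMap_apply] at h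
        obtain ⟨a', rfl, ha'⟩ := ih a₁ y (mul_left_cancel₀ hprime.ne_zero h)
        exact ⟨a', by rw [pow_succ', _root_.mul_assoc], ha'⟩
    obtain ⟨sA, hsA, hsA'⟩ := hdiv w b s hbs
    obtain ⟨cA, hcA, hcA'⟩ := hdiv w' c s' hcs
    have hsc : sA * cA = 1 := hAL (by
      rw [hww] at hprod
      rw [map_mul, hsA', hcA', map_one]
      exact mul_left_cancel₀ (pow_ne_zero _ hprime.ne_zero) (hprod.trans (_root_.mul_one _).symm))
    haveI : IsDomain (Lau R) :=
      IsLocalization.isDomain_localization (powers_le_nonZeroDivisors_of_noZeroDivisors (X_ne_zero (R := R)))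
    have hrs : r sA = algebraMap R[X] (Lau R) X := by
      have h1 := congrArg r hsA
      rw [hrb, map_mul r, map_pow r, AlgHom.commutes, ← map_pow] at h1
      refine mul_left_cancel₀ ?_ h1.symm
      intro h0
      rw [IsScalarTower.algebraMap_apply R R[X] (Lau R), IsLocalization.map_eq_zero_iff (Submonoid.powers (X : R[X]))] at h0
      obtain ⟨⟨_, i, rfl⟩, hi⟩ := h0
      rw [Polynomial.algebraMap_eq, mul_eq_zero, C_eq_zero] at hi
      exact hi.elim (pow_ne_zero i X_ne_zero) (hπn w)
    have hbij : Function.Bijective r := ⟨hr, fun z => by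
      obtain ⟨⟨p, ⟨_, N, rfl⟩⟩, hp⟩ := IsLocalization.surj (Submonoid.powers (X : R[X])) z
      refine ⟨aeval sA p * cA ^ N, ?_⟩
      have hp1 : r (aeval sA p) = algebraMap R[X] (Lau R) p := by
        rw [← aeval_algHom_apply, hrs, aeval_algebraMap_apply, aeval_X_left_apply]
      rw [map_mul, hp1, ← hp, map_pow, map_pow, ← hrs, _root_.mul_assoc, ← mul_pow, ← map_mul, hsc, map_one,
        one_pow, _root_.mul_one]⟩
    haveI := isIso_gmToT (R := R)
    haveI : IsIso (pt r) := by
      haveI : IsIso (isAffineOpen_top G.left).fromSpec := by rw [IsAffineOpen.fromSpec_top]; infer_instance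
      haveI : IsIso (CommRingCat.ofHom r.toRingHom) := (ConcreteCategory.isIso_iff_bijective _).2 hbij
      haveI : IsIso ((Over.forget _).map (pt r)) :=
        inferInstanceAs (IsIso (Spec.map (CommRingCat.ofHom r.toRingHom) ≫ (isAffineOpen_top G.left).fromSpec))
      exact isIso_of_reflects_iso (pt r) (Over.forget _)
    haveI := isMonHom_gmToT_pt r (hπn w) hrb (fun C _ _ _ x y => by rw [map_pow]; exact hmul C x y)
    exact ⟨(asIso (gmToT R ≫ pt r)).symm, inferInstanceAs (IsMonHom (asIso (gmToT R ≫ pt r)).inv)⟩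
  · push_neg at hcase
    obtain ⟨a, ha⟩ := hcase
    have hs1 : algebraMap R L π ∣ s - 1 := by
      have h1 : π ∣ 1 - a := by
        obtain ⟨z, hz⟩ := ha
        have := congrArg (ev 1 hf1) hz
        rw [map_sub, hev1, hevR, map_mul, hevR] at this
        exact ⟨_, this⟩
      have h2 : algebraMap R L π ∣ algebraMap R L (1 - a) := map_dvd _ h1
      rw [map_sub, map_one] at h2
      simpa using dvd_sub ha h2
    have hs0 : s - 1 ≠ 0 := fun h => hbne (hAL (by
      rw [hbs, sub_eq_zero.1 h, _root_.mul_one, map_pow, ← IsScalarTower.algebraMap_apply]))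
    obtain ⟨v, s₁, hs₁, hsv⟩ := exists_eq_pow_mul (R := R) hprime hs0
    have hv : v ≠ 0 := fun h => hs₁ (by
      rw [hsv, h, pow_zero, _root_.one_mul] at hs1; exact hs1)
    have hs₁1 : ev 1 hf1 s₁ = 0 := by
      have := congrArg (ev 1 hf1) hsv
      rw [map_sub, hev1, map_one, sub_self, map_mul, map_pow, hevR, eq_comm, mul_eq_zero] at this
      exact this.resolve_left (hπn v)
    have htr : ∀ h : R[X], algebraMap R L π ∣ aeval s₁ h → C π ∣ h := fun h hh =>
      tr_of_nonconst hπ hprime (fun c hc => hs₁ (by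
        obtain ⟨z, hz⟩ := hc
        have := congrArg (ev 1 hf1) hz
        rw [map_sub, map_mul, hs₁1, hevR, hevR, zero_sub, neg_eq_iff_eq_neg] at this
        rw [sub_eq_iff_eq_add] at hz
        rw [hz, this, map_neg, map_mul]
        exact dvd_add (dvd_mul_right _ _) (dvd_mul_right _ _).neg_right)) h hh
    let q : R[X] := 1 + C (π ^ v) * X
    have hqe : aeval s₁ q = s := by
      simp only [q, map_add, map_one, map_mul, aeval_C, aeval_X, map_pow, ← hsv]
      ring
    obtain ⟨r, -, hrb, hspan, -⟩ := exists_line hπ (q := q) (s := s₁) hrel hf hAL hprime hdvd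
      (by rw [hqe]; exact hsu) (by rw [hqe]; exact hbs) htr
    have hqa : ∀ a : R, aeval a q = 1 + π ^ v * a := fun a => by simp [q]
    have hqu : ∀ a : R, IsUnit (aeval a q) := fun a => isUnit_of_residue_ne_zero (by
      rw [hqa, map_add, map_one, map_mul, map_pow, residue_uniformizer hπ, zero_pow hv, zero_mul, add_zero]
      exact one_ne_zero)
    -- the parameter of a point of the component
    have hpar : ∀ (x : Tst R R ⟶ G) (hx : IsUnit (cv x f)), (T x : R) = 1 + π ^ v * ev x hx s₁ := fun x hx => by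
      rw [hevT x hx, ← sub_eq_iff_eq_add', ← map_one (ev x hx), ← map_sub, hsv, map_mul, map_pow, hevR]
    have hline : ∀ (x : Tst R R ⟶ G) (a : R), (T x : R) = 1 + π ^ v * a → x = pt ((evq q a (hqu a)).comp r) :=
      fun x a hxa => (hmul R x _).2 (by
        rw [cv_pt, AlgHom.comp_apply, hrb, map_mul, AlgHom.commutes, evq_algebraMap, hqa, ht x,
          show (t x : R) = 1 + π ^ v * a from hxa]
        rfl)
    have hiff : ∀ x : Tst R R ⟶ G, Rel (IsLocalRing.ResidueField R) (red G x) 1 ↔ π ^ v ∣ (T x : R) - 1 := fun x => by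
      refine ⟨fun h => ?_, fun ⟨a, ha⟩ => ?_⟩
      · exact ⟨_, sub_eq_iff_eq_add'.2 (hpar x (isUnit_of_residue_ne_zero ((eq_one_iff_rel hcomp x).1 h)))⟩
      · rw [hline x a (sub_eq_iff_eq_add'.1 ha)]
        exact linePoint_rel hπ r hspan hcomp hπP a (hqu a)
    refine Or.inr ⟨hs1, fun x h => (dvd_pow_self π hv).trans ((hiff x).1 h), ⟨v, hiff⟩, fun x d hd hx hxd => ?_⟩
    obtain ⟨y, rfl⟩ := red_surjective (G := G) x
    obtain ⟨a, ha⟩ := (hiff y).1 hx
    have hy := isUnit_of_residue_ne_zero ((eq_one_iff_rel hcomp y).1 hx)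
    -- the reduction of the parameter only depends on the reduction of the point
    have hres : ∀ (z z' : Tst R R ⟶ G) (hz : IsUnit (cv z f)) (hz' : IsUnit (cv z' f)), red G z = red G z' →
        IsLocalRing.residue R (ev z hz s₁) = IsLocalRing.residue R (ev z' hz' s₁) := fun z z' hz hz' he => by
      refine RingHom.congr_fun (IsLocalization.ringHom_ext (Submonoid.powers f)
        (j := (IsLocalRing.residue R).comp (ev z hz)) (k := (IsLocalRing.residue R).comp (ev z' hz'))
        (RingHom.ext fun a => ?_)) s₁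
      simp only [RingHom.comp_apply, hev, ← cv_red, he]
    have hyd : IsUnit (cv (y ^ d) f) := isUnit_of_residue_ne_zero ((eq_one_iff_rel hcomp _).1 (by
      rw [map_pow, hxd]; exact Rel.refl Ideal.Quotient.mk_surjective 1))
    have h0 : IsLocalRing.residue R (ev (y ^ d) hyd s₁) = 0 := by
      rw [hres (y ^ d) 1 hyd hf1 (by rw [map_pow, hxd, map_one]), hs₁1, map_zero]
    have hTy : (T y : R) = 1 + π ^ v * a := sub_eq_iff_eq_add'.1 ha
    have hTd : π ^ v * ev (y ^ d) hyd s₁ = (T y : R) ^ d - 1 := by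
      rw [← Units.val_pow_eq_pow_val, ← map_pow, hpar _ hyd]; ring
    rw [← geom_sum_mul, hTy, add_sub_cancel_left] at hTd
    have h2 : IsLocalRing.residue R (ev (y ^ d) hyd s₁) = (d : IsLocalRing.ResidueField R) * IsLocalRing.residue R a := by
      rw [show ev (y ^ d) hyd s₁ = (∑ i ∈ Finset.range d, (1 + π ^ v * a) ^ i) * a from
        mul_left_cancel₀ (hπn v) (hTd.trans (mul_left_comm _ _ _)), map_mul, map_sum]
      simp [residue_uniformizer hπ, zero_pow hv]
    rw [h0, eq_comm, mul_eq_zero, or_iff_right hd] at h2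
    -- so the point reduces to the unit
    have h1 : (1 : Tst R R ⟶ G) = pt ((evq q 0 (hqu 0)).comp r) := hline 1 0 (by simp)
    rw [← map_one (red G), h1, hline y a hTy]
    refine cv_injective (AlgHom.ext fun z => ?_)
    rw [cv_red, cv_red, cv_pt, cv_pt, AlgHom.comp_apply, AlgHom.comp_apply]
    let σ := Algebra.ofId R (IsLocalRing.ResidueField R)
    have hσ : ∀ a : R, IsUnit (aeval (σ a) q) := fun a => by
      rw [aeval_algHom_apply]; exact (hqu a).map σ
    show σ.comp (evq q a (hqu a)) (r z) = σ.comp (evq q 0 (hqu 0)) (r z)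
    rw [comp_evq σ q a (hqu a) (hσ a), comp_evq σ q 0 (hqu 0) (hσ 0)]
    exact congrArg (fun m : Localization.Away q →ₐ[R] IsLocalRing.ResidueField R => m (r z))
      (evq_congr (h2.trans (map_zero σ).symm))

end Groth.Agent.LineModel
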