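import Groth.Agent.LineModel.J0
import Mathlib.RingTheory.IntegralDomain

/-!
# Component groups of models of the multiplicative group
-/

set_option autoImplicit false
set_option linter.style.haveILetI false
set_option backward.isDefEq.respectTransparency false
set_option backward.isDefEq.respectTransparency.types false

universe u

open CategoryTheory CategoryTheory.Limits AlgebraicGeometry MonoidalCategory CartesianMonoidalCategory MonObj
open Groth.Agent.WeilNeutral (Tst pW Rel)

namespace Groth.Agent.LineModel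

variable {R : Type u} [CommRing R] [IsDomain R] [IsDiscreteValuationRing R]
  [IsAdicComplete (IsLocalRing.maximalIdeal R) R] [IsAlgClosed (IsLocalRing.ResidueField R)] {π : R} (hπ : Irreducible π)
  {G : Over (Spec (CommRingCat.of R))} [GrpObj G] [IsAffine G.left] [Smooth G.hom]
  (K : Type u) [Field K] [Algebra R K] [IsFractionRing R K]
  (e : Red.bc (Spec.map (CommRingCat.ofHom (algebraMap R K))) G ≅ Red.Gm (Spec (CommRingCat.of K))) [IsMonHom e.hom]

include hπ e in
/-- A model whose component is the multiplicative group is the multiplicative group. -/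
theorem gm_of_gm
    (j₀ : Red.Gm (Spec (CommRingCat.of (IsLocalRing.ResidueField R))) ⟶
      Red.bc (Spec.map (CommRingCat.ofHom (IsLocalRing.residue R))) G) [IsMonHom j₀] [IsOpenImmersion j₀.left] :
    (∀ x : Tst R (IsLocalRing.ResidueField R) ⟶ G, Rel (IsLocalRing.ResidueField R) x 1) ∧
      ∃ e' : G ≅ Red.Gm (Spec (CommRingCat.of R)), IsMonHom e'.hom := by
  obtain ⟨T, P, f, s, -, -, -, -, -, -, ⟨-, hall, hiso⟩ | ⟨-, -, -, htors⟩⟩ := gm_model hπ K e
  · exact ⟨hall, hiso⟩
  · obtain ⟨d, x, hd, hx, hxd, hx1⟩ := exists_torsion_of_gm (G := G) j₀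
    exact absurd (htors x d hd hx hxd) hx1

include hπ e in
/-- When the component is the additive group, the components are told apart by a finite cyclic group and a congruence. -/
theorem gm_of_ga
    (j₀ : Red.Ga (Spec (CommRingCat.of (IsLocalRing.ResidueField R))) ⟶
      Red.bc (Spec.map (CommRingCat.ofHom (IsLocalRing.residue R))) G) [IsMonHom j₀] [IsOpenImmersion j₀.left] :
    ∃ (T : (Tst R R ⟶ G) →* Rˣ) (v : ℕ) (y₀ : Tst R R ⟶ G),
      (∀ x : Tst R R ⟶ G, Rel (IsLocalRing.ResidueField R) (red G x) 1 ↔ π ^ v ∣ (T x : R) - 1) ∧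
      ∀ y : Tst R R ⟶ G, ∃ m : ℕ, π ∣ (T (y * (y₀ ^ m)⁻¹) : R) - 1 := by
  have hs : Function.Surjective (algebraMap R (IsLocalRing.ResidueField R)) := Ideal.Quotient.mk_surjective
  obtain ⟨T, P, f, s, hP, hπP, hf, hc, hdvd, hsu, ⟨hnc, -, -⟩ | ⟨-, hcomp, ⟨v, hiff⟩, -⟩⟩ := gm_model hπ K e
  · haveI := hP
    obtain ⟨c, hc⟩ := residual_const_of_ga hπ hπP hf hc hdvd j₀ hsu
    exact absurd hc (hnc c)
  let Tb : (Tst R R ⟶ G) →* (IsLocalRing.ResidueField R)ˣ :=
    (Units.map (IsLocalRing.residue R : R →* IsLocalRing.ResidueField R)).comp T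
  have hTb : ∀ x, Tb x = 1 ↔ π ∣ (T x : R) - 1 := fun x => by
    rw [← residue_eq_iff_dvd hπ, map_one, Units.ext_iff]
    rfl
  obtain ⟨S, hS, hcov⟩ := finite_classes (G := G)
  haveI : Finite Tb.range := by
    choose g hg using red_surjective (G := G)
    haveI := hS.to_subtype
    refine Set.Finite.to_subtype (((Set.finite_range fun s : S => Tb (g s)).subset ?_))
    rintro _ ⟨y, rfl⟩
    obtain ⟨s, hsS, hrel⟩ := hcov (red G y)
    refine ⟨⟨s, hsS⟩, ?_⟩
    have hrel' : Rel (IsLocalRing.ResidueField R) (red G y) (red G (g s)) := by rw [hg]; exact hrel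
    have h := Rel.mul_left hs (red G (g s))⁻¹ hrel'
    rw [inv_mul_cancel, ← map_inv, ← map_mul] at h
    have h'' := (hTb _).2 (hcomp _ h)
    rw [map_mul, map_inv] at h''
    exact inv_mul_eq_one.1 h''
  obtain ⟨⟨g₀, y₀, rfl⟩, hgen⟩ := IsCyclic.exists_generator (α := Tb.range)
  refine ⟨T, v, y₀, hiff, fun y => ?_⟩
  obtain ⟨m, hm⟩ := mem_powers_iff_mem_zpowers.2 (hgen ⟨Tb y, y, rfl⟩)
  refine ⟨m, (hTb _).1 ?_⟩
  rw [map_mul, map_inv, map_pow, mul_inv_eq_one]
  exact (congrArg Subtype.val hm).symm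

end Groth.Agent.LineModel
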