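import Groth.Agent.LineModel.GaLine
import Mathlib.RingTheory.Flat.Localization
import Mathlib.RingTheory.Flat.Stability
import Mathlib.RingTheory.Localization.Away.Basic

/-!
# The multiplicative group as an affine scheme
-/

set_option autoImplicit false
set_option linter.style.haveILetI false
set_option backward.isDefEq.respectTransparency false
set_option backward.isDefEq.respectTransparency.types false

universe u

open CategoryTheory CategoryTheory.Limits AlgebraicGeometry MonoidalCategory CartesianMonoidalCategory MonObj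
open Groth.Agent.WeilNeutral (Tst)
open Polynomial

namespace Groth.Agent.LineModel

variable {R : Type u} [CommRing R]

variable (R) in
/-- Laurent polynomials. -/
abbrev Lau : Type u := Localization.Away (X : R[X])

/-- Evaluation of a fraction of polynomials. -/
noncomputable def evq {C : Type u} [CommRing C] [Algebra R C] (q : R[X]) (a : C) (h : IsUnit (aeval a q)) :
    Localization.Away q →ₐ[R] C :=
  IsLocalization.liftAlgHom (M := Submonoid.powers q) (f := aeval (R := R) a) (by
    rintro ⟨_, i, rfl⟩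
    rw [map_pow]
    exact h.pow i)

theorem evq_algebraMap {C : Type u} [CommRing C] [Algebra R C] (q : R[X]) (a : C) (h : IsUnit (aeval a q)) (p : R[X]) :
    evq q a h (algebraMap R[X] _ p) = aeval a p := by
  rw [evq, IsLocalization.liftAlgHom_apply, IsLocalization.lift_eq]
  rfl

theorem comp_evq {C C' : Type u} [CommRing C] [Algebra R C] [CommRing C'] [Algebra R C'] (φ : C →ₐ[R] C') (q : R[X])
    (a : C) (h : IsUnit (aeval a q)) (h' : IsUnit (aeval (φ a) q)) : φ.comp (evq q a h) = evq q (φ a) h' := by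
  refine IsLocalization.algHom_ext (Submonoid.powers q) (algHom_ext ?_)
  show φ (evq q a h (algebraMap R[X] _ X)) = evq q (φ a) h' (algebraMap R[X] _ X)
  rw [evq_algebraMap, evq_algebraMap, aeval_X, aeval_X]

theorem isUnit_aeval_X {C : Type u} [CommRing C] [Algebra R C] {a : C} (h : IsUnit a) :
    IsUnit (aeval a (X : R[X])) := by
  rwa [aeval_X]

/-- A unit as a point of Laurent polynomials. -/
noncomputable abbrev evU {C : Type u} [CommRing C] [Algebra R C] (a : C) (h : IsUnit a) : Lau R →ₐ[R] C :=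
  evq X a (isUnit_aeval_X h)

theorem evq_congr {C : Type u} [CommRing C] [Algebra R C] {q : R[X]} {a a' : C} {h : IsUnit (aeval a q)}
    {h' : IsUnit (aeval a' q)} (e : a = a') : evq q a h = evq q a' h' := by
  subst e; rfl

variable (R) in
/-- The multiplicative group as the punctured line. -/
noncomputable def gmToT : Red.Gm (Spec (CommRingCat.of R)) ⟶ Tst R (Lau R) :=
  mkT _ (evU (show Crd (Red.Gm (Spec (CommRingCat.of R))) from Red.gmFn (𝟙 (Red.Gm (Spec (CommRingCat.of R)))))
    (GmPts.isUnit_gmFn _))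

theorem comp_gmToT {T : Over (Spec (CommRingCat.of R))} (x : T ⟶ Red.Gm (Spec (CommRingCat.of R))) :
    x ≫ gmToT R = mkT T (evU (show Crd T from Red.gmFn x) (GmPts.isUnit_gmFn x)) := by
  rw [gmToT, comp_mkT]
  refine congrArg (mkT T) ?_
  refine (comp_evq (fnMap x) X _ _ (isUnit_aeval_X ((GmPts.isUnit_gmFn _).map (fnMap x)))).trans (evq_congr ?_)
  show x.left.appTop _ = Red.gmFn x
  rw [← GmPts.gmFn_comp, Category.comp_id]

theorem isIso_gmToT : IsIso (gmToT R) := by
  obtain ⟨φ, hφ, hφc⟩ := mkT_self (R := R) (Lau R)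
  have hX : IsUnit (φ (algebraMap R[X] (Lau R) X)) := (IsLocalization.Away.algebraMap_isUnit _).map φ
  let u : Tst R (Lau R) ⟶ Red.Gm (Spec (CommRingCat.of R)) := GmPts.ptOfUnit hX.unit
  refine ⟨u, GmPts.gmFn_injective ?_, ?_⟩
  · show Red.gmFn (gmToT R ≫ u) = Red.gmFn (𝟙 _)
    rw [GmPts.gmFn_comp, GmPts.gmFn_ptOfUnit, IsUnit.unit_spec, hφc, gmToT, mkT_appTop, evq_algebraMap, aeval_X]
  · rw [comp_gmToT, ← hφ]
    refine congrArg (mkT _) (IsLocalization.algHom_ext (Submonoid.powers (X : R[X])) (algHom_ext ?_))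
    show evU (show Crd (Tst R (Lau R)) from Red.gmFn u) (GmPts.isUnit_gmFn u) (algebraMap R[X] (Lau R) X) = φ (algebraMap R[X] (Lau R) X)
    rw [evq_algebraMap, aeval_X, GmPts.gmFn_ptOfUnit, IsUnit.unit_spec]

variable {G : Over (Spec (CommRingCat.of R))} [GrpObj G] [IsAffine G.left]

set_option synthInstance.maxHeartbeats 200000 in
set_option maxHeartbeats 1000000 in
/-- A line in coordinates gives a homomorphism from the multiplicative group. -/
theorem isMonHom_gmToT_pt [IsDomain R] {b : Crd G} (r : Crd G →ₐ[R] Lau R) {c : R} (hc : c ≠ 0)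
    (hrb : r b = algebraMap R _ c * algebraMap R[X] _ X)
    (hmul : ∀ (C : Type u) [CommRing C] [Algebra R C] [Module.Flat R C] (x y : Tst R C ⟶ G),
      algebraMap R C c * cv (x * y) b = cv x b * cv y b ∧ (cv x b = cv y b → x = y)) :
    IsMonHom (gmToT R ≫ pt r) := by
  have hprod : ∀ (T : Over (Spec (CommRingCat.of R))) (x y : T ⟶ Red.Gm (Spec (CommRingCat.of R))),
      (x * y) ≫ gmToT R ≫ pt r = (x ≫ gmToT R ≫ pt r) * (y ≫ gmToT R ≫ pt r) := by
    intro T x y
    let u₀ : MvPolynomial (Fin 2) R := MvPolynomial.X 0 * MvPolynomial.X 1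
    have hu₀ : u₀ ≠ 0 := mul_ne_zero (MvPolynomial.X_ne_zero _) (MvPolynomial.X_ne_zero _)
    let C₂ := Localization.Away u₀
    haveI : Module.Flat (MvPolynomial (Fin 2) R) C₂ := IsLocalization.flat C₂ (Submonoid.powers u₀)
    haveI : Module.Flat R C₂ := Module.Flat.trans R (MvPolynomial (Fin 2) R) C₂
    let p₀ : C₂ := algebraMap (MvPolynomial (Fin 2) R) C₂ (MvPolynomial.X 0)
    let p₁ : C₂ := algebraMap (MvPolynomial (Fin 2) R) C₂ (MvPolynomial.X 1)
    have h01 : IsUnit (p₀ * p₁) := by
      rw [← map_mul]; exact IsLocalization.Away.algebraMap_isUnit _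
    have h0 : IsUnit p₀ := isUnit_of_mul_isUnit_left h01
    have h1 : IsUnit p₁ := isUnit_of_mul_isUnit_right h01
    let P (p : C₂) (hp : IsUnit p) : Tst R C₂ ⟶ G := pt ((evU p hp).comp r)
    have hP : ∀ p hp, cv (P p hp) b = algebraMap R C₂ c * p := fun p hp => by
      rw [cv_pt, AlgHom.comp_apply, hrb, map_mul, AlgHom.commutes, evq_algebraMap, aeval_X]
    have hu : P (p₀ * p₁) h01 = P p₀ h0 * P p₁ h1 := by
      refine (hmul C₂ _ _).2 ?_
      haveI : IsDomain C₂ := IsLocalization.isDomain_localization (R := MvPolynomial (Fin 2) R)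
        (powers_le_nonZeroDivisors_of_noZeroDivisors hu₀)
      have hc' : algebraMap R C₂ c ≠ 0 := by
        rw [IsScalarTower.algebraMap_apply R (MvPolynomial (Fin 2) R) C₂]
        intro h
        have := IsLocalization.injective C₂ (powers_le_nonZeroDivisors_of_noZeroDivisors hu₀) (h.trans (map_zero _).symm)
        rw [MvPolynomial.algebraMap_eq, MvPolynomial.C_eq_zero] at this
        exact hc this
      refine mul_left_cancel₀ hc' ?_
      rw [(hmul C₂ _ _).1, hP, hP, hP]
      ring
    have hw : ∀ z : Submonoid.powers u₀, IsUnit (MvPolynomial.aeval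
        ![(show Crd T from Red.gmFn x), (show Crd T from Red.gmFn y)] (z : MvPolynomial (Fin 2) R)) := by
      rintro ⟨_, i, rfl⟩
      rw [map_pow, map_mul, MvPolynomial.aeval_X, MvPolynomial.aeval_X]
      exact ((GmPts.isUnit_gmFn x).mul (GmPts.isUnit_gmFn y)).pow i
    let ω : C₂ →ₐ[R] Crd T := IsLocalization.liftAlgHom hw
    have hω : ∀ p, ω (algebraMap (MvPolynomial (Fin 2) R) C₂ p) =
        MvPolynomial.aeval ![(show Crd T from Red.gmFn x), (show Crd T from Red.gmFn y)] p := fun p => by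
      show IsLocalization.liftAlgHom hw _ = _
      rw [IsLocalization.liftAlgHom_apply, IsLocalization.lift_eq]
      rfl
    have key : ∀ (p : C₂) (hp : IsUnit p),
        mkT T ω ≫ P p hp = mkT T (evU (ω p) (hp.map ω)) ≫ pt r := fun p hp => by
      show _ ≫ pt ((evU p hp).comp r) = _
      rw [← tmap_pt r (evU p hp), ← Category.assoc, mkT_tmap, comp_evq]
    have e0 : ω p₀ = (show Crd T from Red.gmFn x) := by rw [hω, MvPolynomial.aeval_X]; rfl
    have e1 : ω p₁ = (show Crd T from Red.gmFn y) := by rw [hω, MvPolynomial.aeval_X]; rfl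
    have hx : x ≫ gmToT R ≫ pt r = mkT T ω ≫ P p₀ h0 := by
      rw [key, ← Category.assoc, comp_gmToT]
      exact congrArg (fun v => mkT T v ≫ pt r) (evq_congr e0.symm)
    have hy : y ≫ gmToT R ≫ pt r = mkT T ω ≫ P p₁ h1 := by
      rw [key, ← Category.assoc, comp_gmToT]
      exact congrArg (fun v => mkT T v ≫ pt r) (evq_congr e1.symm)
    have hxy : (x * y) ≫ gmToT R ≫ pt r = mkT T ω ≫ P (p₀ * p₁) h01 := by
      rw [key, ← Category.assoc, comp_gmToT]
      refine congrArg (fun v => mkT T v ≫ pt r) (evq_congr ?_)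
      show Red.gmFn (x * y) = ω (p₀ * p₁)
      rw [map_mul, e0, e1, GmPts.gmFn_mul]
    rw [hxy, hu, MonObj.comp_mul, hx, hy]
  refine ⟨?_, ?_⟩
  · have h1 := hprod (𝟙_ _) 1 1
    have h0 := congrArg (fun z => z ≫ gmToT R ≫ pt r)
      (_root_.one_mul (1 : 𝟙_ (Over (Spec (CommRingCat.of R))) ⟶ Red.Gm (Spec (CommRingCat.of R))))
    replace h1 := h0.symm.trans h1
    have h2 : (1 : 𝟙_ _ ⟶ Red.Gm (Spec (CommRingCat.of R))) ≫ gmToT R ≫ pt r = 1 := left_eq_mul.1 h1
    rwa [MonObj.one_eq_one, MonObj.one_eq_one]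
  · have h1 := hprod (Red.Gm (Spec (CommRingCat.of R)) ⊗ Red.Gm (Spec (CommRingCat.of R))) (fst _ _) (snd _ _)
    rw [← MonObj.mul_eq_mul, Hom.mul_def] at h1
    rw [h1]
    congr 1

end Groth.Agent.LineModel
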