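import Groth.Agent.LineModel.GmLine
import Mathlib.Algebra.Polynomial.Degree.Units

/-!
# The neutral component of the closed fibre, given as a line
-/

set_option autoImplicit false
set_option linter.style.haveILetI false
set_option backward.isDefEq.respectTransparency false
set_option backward.isDefEq.respectTransparency.types false

universe u

open CategoryTheory CategoryTheory.Limits AlgebraicGeometry MonoidalCategory CartesianMonoidalCategory MonObj
open Groth.Agent.WeilNeutral (Tst pW Rel)
open Polynomial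

namespace Groth.Agent.LineModel

variable {R : Type u} [CommRing R] [IsDomain R] [IsDiscreteValuationRing R]
  [IsAlgClosed (IsLocalRing.ResidueField R)] {π : R} (hπ : Irreducible π)
  {G : Over (Spec (CommRingCat.of R))} [GrpObj G] [IsAffine G.left] [Smooth G.hom]

/-- Composition with a homomorphism, on points. -/
def postHom {𝒞 : Type*} [Category 𝒞] [CartesianMonoidalCategory 𝒞] {M N : 𝒞} [MonObj M] [MonObj N] (g : M ⟶ N)
    [IsMonHom g] (T : 𝒞) : (T ⟶ M) →* (T ⟶ N) where
  toFun w := w ≫ g
  map_one' := MonObj.one_comp g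
  map_mul' a b := MonObj.mul_comp a b g

omit [Smooth G.hom] [IsAffine G.left] [IsAlgClosed (IsLocalRing.ResidueField R)] in
theorem fibrePt_injective : Function.Injective (fibrePt G) := fun x y h => by
  refine (toK_bijective (K := IsLocalRing.ResidueField R) (G := G)).1 ((cancel_epi (oneT R)).1 h)

set_option synthInstance.maxHeartbeats 200000 in
set_option maxHeartbeats 1000000 in
/-- A component isomorphic to the multiplicative group has torsion prime to the characteristic. -/
theorem exists_torsion_of_gm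
    (j₀ : Red.Gm (Spec (CommRingCat.of (IsLocalRing.ResidueField R))) ⟶
      Red.bc (Spec.map (CommRingCat.ofHom (IsLocalRing.residue R))) G) [IsMonHom j₀] [IsOpenImmersion j₀.left] :
    ∃ (d : ℕ) (x : Tst R (IsLocalRing.ResidueField R) ⟶ G), (d : IsLocalRing.ResidueField R) ≠ 0 ∧
      Rel (IsLocalRing.ResidueField R) x 1 ∧ x ^ d = 1 ∧ x ≠ 1 := by
  obtain ⟨d, ζ, hd, hζ1, hζ⟩ : ∃ (d : ℕ) (ζ : IsLocalRing.ResidueField R),
      (d : IsLocalRing.ResidueField R) ≠ 0 ∧ ζ ≠ 1 ∧ ζ ^ d = 1 := by
    by_cases h2 : (2 : IsLocalRing.ResidueField R) = 0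
    · obtain ⟨ζ, hζ⟩ := IsAlgClosed.exists_root
        (X ^ 2 + X + 1 : (IsLocalRing.ResidueField R)[X]) (by
          have : (X ^ 2 + X + 1 : (IsLocalRing.ResidueField R)[X]).degree = 2 := by compute_degree!
          rw [this]; decide)
      simp only [IsRoot, eval_add, eval_pow, eval_X, eval_one] at hζ
      have h3 : ((3 : ℕ) : IsLocalRing.ResidueField R) ≠ 0 := fun h => one_ne_zero (α := IsLocalRing.ResidueField R) (by
        push_cast at h; linear_combination h - h2)
      refine ⟨3, ζ, h3, fun h1 => h3 ?_, by linear_combination (ζ - 1) * hζ⟩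
      rw [h1] at hζ
      push_cast
      linear_combination hζ
    · exact ⟨2, -1, by exact_mod_cast h2, fun h => h2 (by linear_combination -h), by ring⟩
  have hu : IsUnit ζ := IsUnit.of_pow_eq_one hζ (fun h => hd (by simp [h]))
  let S := Spec (CommRingCat.of (IsLocalRing.ResidueField R))
  let u : (Γ((𝟙_ (Over S)).left, ⊤))ˣ :=
    Units.map (Scheme.ΓSpecIso (CommRingCat.of (IsLocalRing.ResidueField R))).inv.hom.toMonoidHom hu.unit
  have hud : u ^ d = 1 := by
    have h0 : hu.unit ^ d = 1 := Units.ext (by simp [hζ])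
    show (Units.map _ hu.unit) ^ d = 1
    rw [← map_pow, h0, map_one]
  have hu1 : u ≠ 1 := fun h => hζ1 (by
    have h' := congrArg (fun z : (Γ((𝟙_ (Over S)).left, ⊤))ˣ =>
      (Scheme.ΓSpecIso (CommRingCat.of (IsLocalRing.ResidueField R))).hom (z : Γ((𝟙_ (Over S)).left, ⊤))) h
    simp only [u, Units.coe_map, Units.val_one] at h'
    exact ((Scheme.ΓSpecIso (CommRingCat.of (IsLocalRing.ResidueField R))).inv_hom_id_apply ζ).symm.trans
      (h'.trans (map_one (Scheme.ΓSpecIso (CommRingCat.of (IsLocalRing.ResidueField R))).hom.hom)))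
  let z : 𝟙_ (Over S) ⟶ Red.Gm S := (GmPts.equiv (𝟙_ (Over S))).symm u
  let J := postHom j₀ (𝟙_ (Over S))
  have hJ : Function.Injective J := fun a b h =>
    Over.OverMorphism.ext ((cancel_mono j₀.left).1 (congrArg (fun m => m.left) h))
  obtain ⟨x, hx⟩ := fibrePt_surjective (G := G) (J z)
  refine ⟨d, x, hd, (fibrePt_rel_iff x 1).1 ?_, fibrePt_injective (G := G) ?_, fun h => hu1 ?_⟩
  · rw [hx, show fibrePt G 1 = J 1 by rw [map_one, map_one]]
    haveI : PreconnectedSpace ↥(Red.Gm S).left := by
      haveI := isIso_gmToT (R := IsLocalRing.ResidueField R)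
      haveI : IsIso (gmToT (IsLocalRing.ResidueField R)).left :=
        inferInstanceAs (IsIso ((Over.forget _).map (gmToT (IsLocalRing.ResidueField R))))
      haveI : IsDomain (Lau (IsLocalRing.ResidueField R)) :=
        IsLocalization.isDomain_localization (powers_le_nonZeroDivisors_of_noZeroDivisors X_ne_zero)
      haveI : PreconnectedSpace ↥(Tst (IsLocalRing.ResidueField R) (Lau (IsLocalRing.ResidueField R))).left :=
        inferInstanceAs (PreconnectedSpace ↥(Spec (CommRingCat.of (Lau (IsLocalRing.ResidueField R)))))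
      exact (gmToT (IsLocalRing.ResidueField R)).left.homeomorph.symm.surjective.denseRange.preconnectedSpace
        (gmToT (IsLocalRing.ResidueField R)).left.homeomorph.symm.continuous
    exact (isPreconnected_univ.image j₀.left j₀.left.continuous.continuousOn).subset_connectedComponent
      ⟨_, trivial, rfl⟩ ⟨_, trivial, rfl⟩
  · rw [map_pow, hx, ← map_pow, map_one]
    exact (congrArg J ((map_pow (GmPts.equiv (𝟙_ (Over S))).symm u d).symm.trans
      ((congrArg _ hud).trans (map_one _)))).trans (map_one J)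
  · rw [h, map_one] at hx
    have h' : z = 1 := hJ (hx.symm.trans (map_one J).symm)
    exact (GmPts.equiv (𝟙_ (Over S))).symm.injective (h'.trans (map_one _).symm)

variable {P : Ideal (Crd G)} [P.IsPrime] {f : Crd G}

set_option synthInstance.maxHeartbeats 200000 in
set_option maxHeartbeats 1000000 in
include hπ in
/-- On a component that is the affine line every unit is constant modulo the uniformiser. -/
theorem residual_const_of_ga (hπP : algebraMap R (Crd G) π ∈ P)
    (hf : ∀ Q : Ideal (Crd G), Q.IsPrime → algebraMap R (Crd G) π ∈ Q → (f ∉ Q ↔ P ≤ Q))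
    (hc : ∀ x : Tst R (IsLocalRing.ResidueField R) ⟶ G, Rel (IsLocalRing.ResidueField R) x 1 ↔ cv x f ≠ 0)
    (hdvd : ∀ a : Crd G, algebraMap R (Localization.Away f) π ∣ algebraMap _ _ a ↔ a ∈ P)
    (j₀ : Red.Ga (Spec (CommRingCat.of (IsLocalRing.ResidueField R))) ⟶
      Red.bc (Spec.map (CommRingCat.ofHom (IsLocalRing.residue R))) G) [IsMonHom j₀] [IsOpenImmersion j₀.left]
    {s : Localization.Away f} (hs : IsUnit s) :
    ∃ c : R, algebraMap R (Localization.Away f) π ∣ s - algebraMap R _ c := by
  let k := IsLocalRing.ResidueField R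
  haveI := isIso_gaToT (R := k)
  obtain ⟨x₀, hx₀⟩ := (toK_bijective (K := k) (C := k[X]) (G := G)).2 (inv (gaToT k) ≫ j₀)
  let φ := cv x₀
  haveI : IsIso (gaToT k).left := inferInstanceAs (IsIso ((Over.forget _).map (gaToT k)))
  haveI : IsOpenImmersion (toK (K := k) x₀).left := by
    rw [hx₀]
    haveI : IsIso (inv (gaToT k)).left := inferInstanceAs (IsIso ((Over.forget _).map (inv (gaToT k))))
    exact inferInstanceAs (IsOpenImmersion ((inv (gaToT k)).left ≫ j₀.left))
  have hπQ : φ (algebraMap R (Crd G) π) = 0 := by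
    rw [AlgHom.commutes, IsScalarTower.algebraMap_apply R k k[X]]
    show algebraMap k k[X] (IsLocalRing.residue R π) = 0
    rw [residue_uniformizer hπ, map_zero]
  -- the origin lies in the component
  have hone : tmap ((aeval (0 : k)).restrictScalars R) ≫ x₀ = 1 := by
    refine fibrePt_injective (G := G) ?_
    rw [map_one]
    show oneT R ≫ toK (K := k) _ = 1
    rw [toK_tmap, hx₀]
    have h0 : oneT R ≫ tmap (aeval (0 : k)) = (1 : 𝟙_ _ ⟶ Red.Ga (Spec (CommRingCat.of k))) ≫ gaToT k := by
      rw [comp_gaToT]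
      obtain ⟨ψ, hψ, hψc⟩ := mkT_self (R := k) k
      conv_lhs => rw [← Category.id_comp (tmap (aeval (0 : k))), ← hψ, mkT_tmap, comp_mkT]
      refine congrArg (mkT _) (algHom_ext ?_)
      show fnMap (oneT R) (ψ (aeval (0 : k) X)) = aeval _ X
      rw [aeval_X, aeval_X, map_zero, map_zero]
      exact (GrpSchLib.GaPts.gaFn_one (T := 𝟙_ (Over (Spec (CommRingCat.of k))))).symm
    rw [← Category.assoc (oneT R), h0, Category.assoc, IsIso.hom_inv_id_assoc]
    exact MonObj.one_comp j₀
  have hfQ : φ f ≠ 0 := fun h => by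
    have h' : cv (tmap ((aeval (0 : k)).restrictScalars R) ≫ x₀) f ≠ 0 :=
      (hc _).1 (by rw [hone]; exact Rel.refl Ideal.Quotient.mk_surjective (1 : Tst R k ⟶ G))
    rw [cv_tmap, AlgHom.comp_apply] at h'
    exact h' (by show (aeval (0 : k)).restrictScalars R (φ f) = 0; rw [h, map_zero])
  have hle : P ≤ RingHom.ker φ.toRingHom :=
    (hf (RingHom.ker φ.toRingHom) (RingHom.ker_isPrime _) hπQ).1 hfQ
  -- the line is dense in the component
  have hker : ∀ a, φ a = 0 → a ∈ P := by
    let p := pullback.fst G.hom (Spec.map (CommRingCat.ofHom (algebraMap R k)))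
    haveI : IsClosedImmersion (Spec.map (CommRingCat.ofHom (algebraMap R k))) :=
      IsClosedImmersion.spec_of_surjective _ Ideal.Quotient.mk_surjective
    obtain ⟨y, hy⟩ : (toPrime G).symm ⟨P, inferInstance⟩ ∈ Set.range p := by
      rw [kappa_range (G := G), mem_sfib_iff hπ, (toPrime G).apply_symm_apply]
      exact hπP
    let η₀ : PrimeSpectrum k[X] := ⟨⊥, Ideal.isPrime_bot⟩
    have hη : ∀ 𝔮 : PrimeSpectrum k[X],
        toPrime G (p ((toK (K := k) x₀).left 𝔮)) = PrimeSpectrum.comap φ.toRingHom 𝔮 := fun 𝔮 => by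
      rw [show p ((toK (K := k) x₀).left 𝔮) = x₀.left 𝔮 from
        congrArg (fun m : Spec (CommRingCat.of k[X]) ⟶ G.left => m 𝔮) (toK_left_fst x₀)]
      exact toPrime_pt x₀ 𝔮
    have hspec : y ⤳ (toK (K := k) x₀).left η₀ := by
      rw [← p.isEmbedding.isInducing.specializes_iff, ← (toPrime G).isInducing.specializes_iff, hy,
        (toPrime G).apply_symm_apply, hη, ← PrimeSpectrum.le_iff_specializes]
      intro a ha
      show φ a ∈ (⊥ : Ideal k[X])
      rw [Ideal.mem_bot]
      exact hle ha
    obtain ⟨𝔮, h𝔮⟩ := hspec.mem_open (toK (K := k) x₀).left.isOpenEmbedding.isOpen_range ⟨η₀, rfl⟩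
    intro a ha
    have h1 := hη 𝔮
    rw [h𝔮, hy, (toPrime G).apply_symm_apply] at h1
    show a ∈ (⟨P, inferInstance⟩ : PrimeSpectrum (Crd G)).asIdeal
    rw [h1]
    show φ a ∈ 𝔮.asIdeal
    rw [ha]
    exact Ideal.zero_mem _
  have hunit : ∀ g : Crd G, g = f → IsUnit (φ g) := by
    rintro g rfl
    by_contra hg
    obtain ⟨M, hM, hgM⟩ := exists_max_ideal_of_mem_nonunits hg
    haveI := hM.isPrime
    exact (hf (M.comap φ.toRingHom) inferInstance (by show φ _ ∈ M; rw [hπQ]; exact M.zero_mem)).2
      (fun a ha => by show φ a ∈ M; rw [show φ a = 0 from hle ha]; exact M.zero_mem) hgM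
  let φL : Localization.Away f →+* k[X] := IsLocalization.Away.lift f (g := φ.toRingHom) (hunit f rfl)
  have hφL : ∀ a, φL (algebraMap (Crd G) _ a) = φ a := fun a => IsLocalization.Away.lift_eq f (hunit f rfl) a
  obtain ⟨c₀, -, hc₀⟩ := Polynomial.isUnit_iff.1 (hs.map φL)
  obtain ⟨c, rfl⟩ := Ideal.Quotient.mk_surjective c₀
  refine ⟨c, ?_⟩
  obtain ⟨⟨a, m⟩, ha⟩ := IsLocalization.surj (Submonoid.powers f) (s - algebraMap R _ c)
  have hz : φL (s - algebraMap R _ c) = 0 := by
    rw [map_sub, ← hc₀, IsScalarTower.algebraMap_apply R (Crd G) (Localization.Away f), hφL, AlgHom.commutes,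
      IsScalarTower.algebraMap_apply R k k[X], Polynomial.algebraMap_eq, sub_eq_zero]
    rfl
  have haP : a ∈ P := hker a (by
    have := congrArg φL ha
    rw [map_mul, hz, zero_mul, hφL] at this
    exact this.symm)
  exact ((IsLocalization.map_units (Localization.Away f) m).dvd_mul_right).1 (ha ▸ (hdvd a).2 haP)

end Groth.Agent.LineModel
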