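import Groth.Agent.LineModel.Comp

/-!
# Reduction of points and an open immersion criterion
-/

set_option autoImplicit false
set_option linter.style.haveILetI false
set_option backward.isDefEq.respectTransparency false
set_option backward.isDefEq.respectTransparency.types false

universe u

open CategoryTheory CategoryTheory.Limits AlgebraicGeometry MonoidalCategory CartesianMonoidalCategory MonObj
  TopologicalSpace
open Groth.Agent.WeilNeutral (Tst pW sfib Rel)

namespace Groth.Agent.LineModel

variable {R : Type u} [CommRing R]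

theorem isOpenImmersion_Spec_of {A B : Type u} [CommRing A] [CommRing B] (r : A →+* B) (hr : Function.Injective r)
    (g₁ g₂ : A) (hspan : Ideal.span {r g₁, r g₂} = ⊤)
    (h₁ : ∀ b : B, ∃ (N : ℕ) (a : A), r a = r g₁ ^ N * b) (h₂ : ∀ b : B, ∃ (N : ℕ) (a : A), r a = r g₂ ^ N * b) :
    IsOpenImmersion (Spec.map (CommRingCat.ofHom r)) := by
  letI := r.toAlgebra
  have key : ∀ g : A, (∀ b : B, ∃ (N : ℕ) (a : A), r a = r g ^ N * b) →
      IsOpenImmersion (Spec.map (CommRingCat.ofHom (algebraMap B (Localization.Away (r g)))) ≫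
        Spec.map (CommRingCat.ofHom r)) := fun g hg => by
    rw [← Spec.map_comp, ← CommRingCat.ofHom_comp]
    haveI : IsLocalization.Away g (Localization.Away (r g)) := by
      refine (IsLocalization.iff_of_le_of_exists_dvd _ (Submonoid.powers g) le_rfl fun n hn => ⟨n, hn, dvd_rfl⟩).1 ?_
      refine ⟨⟨fun ⟨_, i, hi⟩ => ?_, fun z => ?_, fun {x y} hxy => ?_⟩⟩
      · subst hi
        show IsUnit (algebraMap A (Localization.Away (r g)) (g ^ i))
        rw [map_pow]
        exact (IsLocalization.Away.algebraMap_isUnit (S := Localization.Away (r g)) (r g)).pow i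
      · obtain ⟨⟨b, ⟨_, i, rfl⟩⟩, hz⟩ := IsLocalization.surj (Submonoid.powers (r g)) z
        obtain ⟨N, a, ha⟩ := hg b
        refine ⟨⟨a, ⟨g ^ (N + i), ⟨N + i, rfl⟩⟩⟩, ?_⟩
        show z * algebraMap B _ (r (g ^ (N + i))) = algebraMap B _ (r a)
        rw [ha, map_pow, pow_add, map_mul, map_mul, ← hz]
        simp only [map_pow]
        ring
      · have h' : algebraMap B (Localization.Away (r g)) (r x) = algebraMap B _ (r y) := hxy
        obtain ⟨⟨_, i, rfl⟩, hc⟩ := IsLocalization.exists_of_eq (M := Submonoid.powers (r g)) h'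
        exact ⟨⟨g ^ i, ⟨i, rfl⟩⟩, hr (by simpa using hc)⟩
    exact IsOpenImmersion.of_isLocalization g
  have hmem : ∀ y : PrimeSpectrum B, r g₁ ∉ y.asIdeal ∨ r g₂ ∉ y.asIdeal := fun y => by
    by_contra h
    push_neg at h
    refine y.2.ne_top (eq_top_iff.2 (hspan ▸ ?_))
    rw [Ideal.span_le]
    rintro _ (rfl | rfl)
    exacts [h.1, h.2]
  have hinj : Function.Injective (Spec.map (CommRingCat.ofHom r)) := by
    intro y y' hyy
    have main : ∀ g : A, (∀ b : B, ∃ (N : ℕ) (a : A), r a = r g ^ N * b) →
        r g ∉ (y : PrimeSpectrum B).asIdeal → y = y' := fun g hg hy => by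
      have hy' : r g ∉ (y' : PrimeSpectrum B).asIdeal := fun h => hy (by
        have : g ∈ (PrimeSpectrum.comap r y').asIdeal := h
        rwa [show PrimeSpectrum.comap r y' = PrimeSpectrum.comap r y from hyy.symm] at this)
      have hr' : Set.range (Spec.map (CommRingCat.ofHom (algebraMap B (Localization.Away (r g))))) =
          {z : PrimeSpectrum B | r g ∉ z.asIdeal} := PrimeSpectrum.localization_away_comap_range _ (r g)
      obtain ⟨z, hz⟩ := hr'.ge hy
      obtain ⟨z', hz'⟩ := hr'.ge hy'
      haveI := key g hg
      have hzz : z = z' := ((Spec.map (CommRingCat.ofHom (algebraMap B (Localization.Away (r g))))) ≫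
          Spec.map (CommRingCat.ofHom r)).isOpenEmbedding.injective (by
        rw [Scheme.Hom.comp_apply, Scheme.Hom.comp_apply, hz, hz']
        exact hyy)
      rw [← hz, ← hz', hzz]
    exact (hmem y).elim (main g₁ h₁) (main g₂ h₂)
  let 𝒰 := Scheme.affineOpenCoverOfSpanRangeEqTop (R := CommRingCat.of B) (fun i : Bool => if i then r g₁ else r g₂) (by
    rw [← hspan]
    congr 1
    ext z
    simp [Bool.exists_bool, eq_comm, or_comm])
  haveI : ∀ i, IsOpenImmersion (𝒰.openCover.f i ≫ Spec.map (CommRingCat.ofHom r)) := fun i => by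
    cases i
    · exact key g₂ h₂
    · exact key g₁ h₁
  exact IsOpenImmersion.of_openCover_source _ 𝒰.openCover hinj fun i => inferInstance

variable {G : Over (Spec (CommRingCat.of R))} [GrpObj G]

variable (G) in
/-- Reduction of points. -/
noncomputable def red [IsLocalRing R] : (Tst R R ⟶ G) →* (Tst R (IsLocalRing.ResidueField R) ⟶ G) where
  toFun x := tmap (Algebra.ofId R (IsLocalRing.ResidueField R)) ≫ x
  map_one' := MonObj.comp_one _
  map_mul' := MonObj.comp_mul _

theorem cv_red [IsLocalRing R] [IsAffine G.left] (x : Tst R R ⟶ G) (a : Crd G) :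
    cv (red G x) a = IsLocalRing.residue R (cv x a) :=
  AlgHom.congr_fun (cv_tmap _ x) a

theorem red_surjective [IsLocalRing R] [IsAdicComplete (IsLocalRing.maximalIdeal R) R] [IsAffine G.left]
    [Smooth G.hom] : Function.Surjective (red G) := fun x => by
  haveI := smooth_crd (G := G)
  obtain ⟨g, hg⟩ := exists_lift_residue (cv x)
  exact ⟨pt g, cv_injective (AlgHom.ext fun a => by rw [cv_red, cv_pt, hg])⟩

variable [IsDomain R] [IsDiscreteValuationRing R] [IsAffine G.left] [Smooth G.hom]

/-- The closed fibre has finitely many classes of points. -/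
theorem finite_classes : ∃ S : Set (Tst R (IsLocalRing.ResidueField R) ⟶ G),
    S.Finite ∧ ∀ x, ∃ s ∈ S, Rel (IsLocalRing.ResidueField R) x s := by
  classical
  haveI := noetherianSpace_fibre (G := G)
  let Gk := Red.bc (Spec.map (CommRingCat.ofHom (algebraMap R (IsLocalRing.ResidueField R)))) G
  have hfin : (Set.range fun z : Gk.left => connectedComponent z).Finite := by
    have : (Set.range fun z : Gk.left => connectedComponent z) ⊆
        (fun Z => if h : Z.Nonempty then connectedComponent h.choose else Set.univ) '' irreducibleComponents ↥Gk.left := by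
      rintro _ ⟨z, rfl⟩
      refine ⟨irreducibleComponent z, irreducibleComponent_mem_irreducibleComponents z, ?_⟩
      have hne : (irreducibleComponent z).Nonempty := ⟨z, mem_irreducibleComponent⟩
      simp only [dif_pos hne]
      exact (connectedComponent_eq
        ((isIrreducible_irreducibleComponent.isConnected.isPreconnected.subset_connectedComponent
          mem_irreducibleComponent) hne.choose_spec)).symm
    exact (NoetherianSpace.finite_irreducibleComponents.image _).subset this
  let cls (x : Tst R (IsLocalRing.ResidueField R) ⟶ G) : Set ↥Gk.left :=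
    connectedComponent ((toK (K := IsLocalRing.ResidueField R) x).left (IsLocalRing.closedPoint _))
  have hcls : ∀ x y, cls x = cls y → Rel (IsLocalRing.ResidueField R) x y := fun x y h => by
    show pW x ∈ connectedComponentIn (sfib G) (pW y)
    rw [← toK_apply y, image_component]
    refine ⟨_, ?_, toK_apply x⟩
    show _ ∈ cls y
    rw [← h]
    exact mem_connectedComponent
  have hf2 : (Set.range cls).Finite := hfin.subset (by rintro _ ⟨x, rfl⟩; exact ⟨_, rfl⟩)
  refine ⟨Set.range (fun c : Set.range cls => c.2.choose), ?_, fun x => ?_⟩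
  · haveI := hf2.to_subtype
    exact Set.finite_range _
  · refine ⟨_, ⟨⟨cls x, x, rfl⟩, rfl⟩, hcls _ _ ?_⟩
    exact (Exists.choose_spec (p := fun y => cls y = cls x) ⟨x, rfl⟩).symm

/-- Every point of the closed fibre has a positive power in the neutral component. -/
theorem exists_pow_rel (x : Tst R (IsLocalRing.ResidueField R) ⟶ G) :
    ∃ d : ℕ, 0 < d ∧ Rel (IsLocalRing.ResidueField R) (x ^ d) 1 := by
  have hs : Function.Surjective (algebraMap R (IsLocalRing.ResidueField R)) := Ideal.Quotient.mk_surjective
  obtain ⟨S, hS, hcov⟩ := finite_classes (G := G)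
  choose g hgS hg using hcov
  obtain ⟨i, -, j, -, hne, hij⟩ := Set.infinite_univ.exists_ne_map_eq_of_mapsTo
    (f := fun n : ℕ => g (x ^ n)) (fun n _ => hgS _) hS
  have main : ∀ i j : ℕ, i < j → g (x ^ i) = g (x ^ j) → ∃ d : ℕ, 0 < d ∧ Rel (IsLocalRing.ResidueField R) (x ^ d) 1 := by
    intro i j hij he
    refine ⟨j - i, by omega, ?_⟩
    have h := (hg (x ^ j)).trans (he ▸ (Rel.symm hs (hg (x ^ i))))
    have h' := Rel.mul_left hs ((x ^ i)⁻¹) h
    rwa [inv_mul_cancel, show j = i + (j - i) by omega, pow_add, inv_mul_cancel_left] at h'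
  rcases lt_or_gt_of_ne hne with h | h
  · exact main i j h hij
  · exact main j i h hij.symm

end Groth.Agent.LineModel
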