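import Groth.Agent.WeilNeutral.Pts
import Groth.Agent.GrpSchLib.GaPts
import Groth.Agent.DSPtsLib.Basic

/-!
# Points of affine schemes and their base changes
-/

set_option autoImplicit false
set_option linter.style.haveILetI false
set_option backward.isDefEq.respectTransparency false
set_option backward.isDefEq.respectTransparency.types false

universe u

open CategoryTheory CategoryTheory.Limits AlgebraicGeometry MonoidalCategory CartesianMonoidalCategory MonObj
open Groth.Agent.WeilNeutral (Tst algV fromSpec_hom)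

namespace Groth.Agent.LineModel

variable {R : Type u} [CommRing R]

/-- The coordinate ring. -/
def Crd (G : Over (Spec (CommRingCat.of R))) : Type u := Γ(G.left, ⊤)

noncomputable instance (G : Over (Spec (CommRingCat.of R))) : CommRing (Crd G) :=
  inferInstanceAs (CommRing Γ(G.left, ⊤))

noncomputable instance (G : Over (Spec (CommRingCat.of R))) : Algebra R (Crd G) := algV (N' := G) ⊤

theorem appLE_top {X Y : Scheme.{u}} (f : X ⟶ Y) : f.appLE ⊤ ⊤ le_top = f.appTop :=
  Scheme.Hom.appLE_eq_app f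

variable {C C' : Type u} [CommRing C] [Algebra R C] [CommRing C'] [Algebra R C']

/-- The morphism of test schemes of an algebra map. -/
noncomputable def tmap (φ : C →ₐ[R] C') : Tst R C' ⟶ Tst R C :=
  Over.homMk (Spec.map (CommRingCat.ofHom φ.toRingHom)) (by
    show Spec.map _ ≫ Spec.map _ = Spec.map _
    rw [← Spec.map_comp, ← CommRingCat.ofHom_comp]
    exact congrArg (fun r => Spec.map (CommRingCat.ofHom r)) (RingHom.ext φ.commutes))

theorem tmap_comp {C'' : Type u} [CommRing C''] [Algebra R C''] (φ : C →ₐ[R] C') (ψ : C' →ₐ[R] C'') :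
    tmap ψ ≫ tmap φ = tmap (ψ.comp φ) :=
  Over.OverMorphism.ext (Spec.map_comp _ _).symm

/-- The morphism to a test scheme given by functions. -/
noncomputable def mkT (T : Over (Spec (CommRingCat.of R))) (φ : C →ₐ[R] Crd T) : T ⟶ Tst R C :=
  Over.homMk (T.left.toSpecΓ ≫ Spec.map (CommRingCat.ofHom φ.toRingHom)) (by
    show (_ ≫ _) ≫ Spec.map _ = T.hom
    rw [Category.assoc, ← Spec.map_comp, ← CommRingCat.ofHom_comp]
    have h : φ.toRingHom.comp (algebraMap R C) = algebraMap R (Crd T) := RingHom.ext φ.commutes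
    rw [h]
    show T.left.toSpecΓ ≫ Spec.map ((Scheme.ΓSpecIso (CommRingCat.of R)).inv ≫ T.hom.appLE ⊤ ⊤ le_top) = _
    rw [appLE_top, Spec.map_comp, ← Scheme.toSpecΓ_naturality_assoc]
    simp)

theorem mkT_tmap (T : Over (Spec (CommRingCat.of R))) (φ : C' →ₐ[R] Crd T) (ψ : C →ₐ[R] C') :
    mkT T φ ≫ tmap ψ = mkT T (φ.comp ψ) :=
  Over.OverMorphism.ext (by
    show (_ ≫ _) ≫ Spec.map _ = _
    rw [Category.assoc, ← Spec.map_comp]
    rfl)

/-- The action of a morphism on functions. -/
noncomputable def fnMap {T T' : Over (Spec (CommRingCat.of R))} (g : T' ⟶ T) : Crd T →ₐ[R] Crd T' where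
  toRingHom := g.left.appTop.hom
  commutes' r := by
    show ((Scheme.ΓSpecIso (CommRingCat.of R)).inv ≫ T.hom.appLE ⊤ ⊤ le_top ≫ g.left.appTop).hom r =
      ((Scheme.ΓSpecIso (CommRingCat.of R)).inv ≫ T'.hom.appLE ⊤ ⊤ le_top).hom r
    refine congrArg (fun m => ((Scheme.ΓSpecIso (CommRingCat.of R)).inv ≫ m).hom r) ?_
    rw [appLE_top, appLE_top]
    exact (Scheme.Hom.comp_appTop g.left T.hom).symm.trans (congrArg (fun m : T'.left ⟶ _ => m.appTop) (Over.w g))

theorem comp_mkT {T T' : Over (Spec (CommRingCat.of R))} (g : T' ⟶ T) (φ : C →ₐ[R] Crd T) :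
    g ≫ mkT T φ = mkT T' ((fnMap g).comp φ) :=
  Over.OverMorphism.ext (by
    show g.left ≫ _ ≫ _ = _ ≫ _
    rw [← Category.assoc, Scheme.toSpecΓ_naturality, Category.assoc, ← Spec.map_comp]
    rfl)

section Affine

variable {G : Over (Spec (CommRingCat.of R))} [IsAffine G.left]

/-- The point with given coordinates. -/
noncomputable def pt (φ : Crd G →ₐ[R] C) : Tst R C ⟶ G :=
  Over.homMk (Spec.map (CommRingCat.ofHom φ.toRingHom) ≫ (isAffineOpen_top G.left).fromSpec) (by
    show (_ ≫ _) ≫ G.hom = Spec.map _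
    rw [Category.assoc, fromSpec_hom (N' := G) (isAffineOpen_top G.left), ← Spec.map_comp, ← CommRingCat.ofHom_comp]
    exact congrArg (fun r => Spec.map (CommRingCat.ofHom r)) (RingHom.ext φ.commutes))

theorem tmap_pt (φ : Crd G →ₐ[R] C) (ψ : C →ₐ[R] C') : tmap ψ ≫ pt φ = pt (ψ.comp φ) :=
  Over.OverMorphism.ext (by
    show Spec.map _ ≫ _ ≫ _ = _ ≫ _
    rw [← Spec.map_comp_assoc]
    rfl)

theorem pt_bijective : Function.Bijective (pt : (Crd G →ₐ[R] C) → (Tst R C ⟶ G)) := by
  haveI : IsIso (isAffineOpen_top G.left).fromSpec := by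
    rw [IsAffineOpen.fromSpec_top]
    infer_instance
  refine ⟨fun φ ψ h => ?_, fun x => ?_⟩
  · have h' : Spec.map (CommRingCat.ofHom φ.toRingHom) = Spec.map (CommRingCat.ofHom ψ.toRingHom) :=
      (cancel_mono _).1 (congrArg (fun m : Tst R C ⟶ G => m.left) h)
    exact AlgHom.ext fun a => congrArg (fun m => m.hom a) (Spec.map_injective h')
  · let l := x.left ≫ inv (isAffineOpen_top G.left).fromSpec
    have hcomm : Spec.map (Spec.preimage l) ≫ Spec.map (CommRingCat.ofHom (algebraMap R (Crd G))) =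
        Spec.map (CommRingCat.ofHom (algebraMap R C)) := by
      rw [Spec.map_preimage]
      show _ ≫ Spec.map (CommRingCat.ofHom (@algebraMap R Γ(G.left, ⊤) _ _ (algV (N' := G) ⊤))) = _
      rw [← fromSpec_hom (N' := G) (isAffineOpen_top G.left)]
      simp only [l, Category.assoc, IsIso.inv_hom_id_assoc]
      exact Over.w x
    rw [← Spec.map_comp, Spec.map_inj] at hcomm
    refine ⟨{ toRingHom := (Spec.preimage l).hom, commutes' := fun r => congrArg (fun w => w.hom r) hcomm },
      Over.OverMorphism.ext ?_⟩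
    show Spec.map (CommRingCat.ofHom (Spec.preimage l).hom) ≫ _ = x.left
    rw [CommRingCat.ofHom_hom, Spec.map_preimage]
    simp [l]

/-- The coordinates of a point. -/
noncomputable def cv (x : Tst R C ⟶ G) : Crd G →ₐ[R] C := (Equiv.ofBijective _ pt_bijective).symm x

theorem pt_cv (x : Tst R C ⟶ G) : pt (cv x) = x := (Equiv.ofBijective _ pt_bijective).apply_symm_apply x

theorem cv_pt (φ : Crd G →ₐ[R] C) : cv (pt φ) = φ := (Equiv.ofBijective _ pt_bijective).symm_apply_apply φ

theorem cv_injective : Function.Injective (cv : (Tst R C ⟶ G) → _) := fun x y h => by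
  rw [← pt_cv x, ← pt_cv y, h]

theorem cv_tmap (ψ : C →ₐ[R] C') (x : Tst R C ⟶ G) : cv (tmap ψ ≫ x) = ψ.comp (cv x) := by
  conv_lhs => rw [← pt_cv x, tmap_pt, cv_pt]

end Affine

section BaseChange

variable {K : Type u} [CommRing K] [Algebra R K] [Algebra K C] [IsScalarTower R K C] [Algebra K C'] [IsScalarTower R K C']
  {G : Over (Spec (CommRingCat.of R))}

/-- A point read on the base change. -/
noncomputable def toK (x : Tst R C ⟶ G) :
    Tst K C ⟶ Red.bc (Spec.map (CommRingCat.ofHom (algebraMap R K))) G :=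
  Over.homMk (pullback.lift x.left (Spec.map (CommRingCat.ofHom (algebraMap K C))) (by
    refine (Over.w x).trans ?_
    show Spec.map _ = Spec.map _ ≫ Spec.map _
    rw [← Spec.map_comp, ← CommRingCat.ofHom_comp, ← IsScalarTower.algebraMap_eq])) (pullback.lift_snd _ _ _)

theorem toK_left_fst (x : Tst R C ⟶ G) : (toK (K := K) x).left ≫ pullback.fst _ _ = x.left := pullback.lift_fst _ _ _

theorem toK_bijective : Function.Bijective (toK : (Tst R C ⟶ G) → (Tst K C ⟶ _)) := by
  refine ⟨fun x y h => Over.OverMorphism.ext ?_, fun z => ⟨Over.homMk (z.left ≫ pullback.fst _ _) ?_, ?_⟩⟩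
  · rw [← toK_left_fst (K := K) x, h, toK_left_fst]
  · have h := congrArg (fun m => m ≫ Spec.map (CommRingCat.ofHom (algebraMap R K))) (Over.w z)
    simp only [Category.assoc] at h ⊢
    rw [pullback.condition]
    refine h.trans ?_
    show Spec.map _ ≫ Spec.map _ = Spec.map _
    rw [← Spec.map_comp, ← CommRingCat.ofHom_comp, ← IsScalarTower.algebraMap_eq]
  · exact Over.OverMorphism.ext (pullback.hom_ext (pullback.lift_fst _ _ _)
      ((pullback.lift_snd _ _ _).trans (Over.w z).symm))

theorem toK_tmap (φ : C →ₐ[K] C') (x : Tst R C ⟶ G) :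
    toK (K := K) (tmap (φ.restrictScalars R) ≫ x) = tmap φ ≫ toK x := by
  refine Over.OverMorphism.ext (pullback.hom_ext ?_ ((Over.w _).trans (Over.w _).symm))
  rw [toK_left_fst, Over.comp_left, Over.comp_left, Category.assoc, toK_left_fst]
  rfl

/-- The test scheme read over the old base. -/
noncomputable def kappa : (Over.map (Spec.map (CommRingCat.ofHom (algebraMap R K)))).obj (Tst K C) ⟶ Tst R C :=
  Over.homMk (𝟙 _) (by
    show 𝟙 _ ≫ Spec.map _ = Spec.map _ ≫ Spec.map _
    rw [Category.id_comp, ← Spec.map_comp, ← CommRingCat.ofHom_comp, ← IsScalarTower.algebraMap_eq])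

theorem theta_toK (x : Tst R C ⟶ G) :
    DSPtsLib.theta (Spec.map (CommRingCat.ofHom (algebraMap R K))) (toK (K := K) x) = kappa ≫ x :=
  Over.OverMorphism.ext (by
    have h1 := DSPtsLib.theta_left (Spec.map (CommRingCat.ofHom (algebraMap R K))) (toK (K := K) x)
    have h2 := toK_left_fst (K := K) x
    exact h1.trans (h2.trans (Category.id_comp x.left).symm))

theorem toK_mul [GrpObj G] (x y : Tst R C ⟶ G) : toK (K := K) (x * y) = toK x * toK y :=
  (DSPtsLib.theta_bijective (Spec.map (CommRingCat.ofHom (algebraMap R K)))).injective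
    ((theta_toK (K := K) (x * y)).trans ((MonObj.comp_mul _ x y).trans
      ((congrArg₂ (· * ·) (theta_toK (K := K) x).symm (theta_toK (K := K) y).symm).trans
        (DSPtsLib.theta_mul _ _ _).symm)))

end BaseChange

end Groth.Agent.LineModel
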